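import Cfsg.Agent.Lib.KnownB.ThompsonD43.Rank

/-!
Every element of twisted `D₄` is conjugate to a product of a negative and a positive unipotent
element: counting puts a conjugate into the big cell, and moves inside the two rank one subgroups
change the diagonal part to the identity.
-/

set_option autoImplicit false
set_option maxRecDepth 100000

namespace CfsgLib.ThompsonD43

open Cfsg.Lie Matrix CfsgLib.Chev CfsgLib.Chev.OrdList
open CfsgLib.Steinberg.R1Data (up dn)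
open CfsgLib.Chev.D4Torus (map_up map_dn dtw dtw_up dtw_dn dtw_val dmat dSL)
open CfsgLib.Chev.D43 (ix)
open scoped MatrixGroups

variable {K : Type*} [Field K] {σ : K →+* K}

local notation "g₄" => stdD4.good
local notation "G₄" => GL chevD4.Idx K

theorem tor_conj_Uni (c : Fin chevD4.rank → Kˣ) (b : Bool) {u : G₄} (hu : u ∈ Uni b) :
    tor chevD4 auxD4 c * u * (tor chevD4 auxD4 c)⁻¹ ∈ Uni b := by
  rw [Uni_eq] at hu ⊢
  exact conj_UP_le (σ := id) (acts_tor g₄ c) (fun r hr => sgn_lt hr)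
    (fun r t hr => xG_mem_UP g₄ hr t) hu

theorem tor_fix {c : Fin chevD4.rank → Kˣ} (hc : c ∈ (D43.tw σ).thetaFix) :
    tor chevD4 auxD4 c ∈ (D43.tw σ).fix :=
  ((D43.tw σ).tor_mem_fix_iff c).2 (by rw [(D43.tw σ).mem_thetaFix.1 hc])

theorem tor_conj_UF {c : Fin chevD4.rank → Kˣ} (hc : c ∈ (D43.tw σ).thetaFix) (b : Bool) {u : G₄}
    (hu : u ∈ UF σ b) : tor chevD4 auxD4 c * u * (tor chevD4 auxD4 c)⁻¹ ∈ UF σ b :=
  ⟨tor_conj_Uni c b hu.1, Subgroup.mul_mem _ (Subgroup.mul_mem _ (tor_fix hc) hu.2) (Subgroup.inv_mem _ (tor_fix hc))⟩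

/-! ### the fixed torus -/

/-- coordinates of the fixed torus -/
noncomputable def cv (σ : K →+* K) (a b : Kˣ) : Fin chevD4.rank → Kˣ :=
  (![a, b, Units.map σ.toMonoidHom a, Units.map σ.toMonoidHom (Units.map σ.toMonoidHom a)] :
    Fin 4 → Kˣ)

theorem cv_mul (a b a' b' : Kˣ) : cv σ a b * cv σ a' b' = cv σ (a * a') (b * b') := by
  refine D43.ext_ix fun k => ?_
  fin_cases k
  · rfl
  · rfl
  · exact (map_mul _ _ _).symm
  · show _ = Units.map σ.toMonoidHom (Units.map σ.toMonoidHom (a * a'))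
    rw [map_mul, map_mul]; rfl

theorem cv_one : cv σ 1 1 = 1 := by
  refine D43.ext_ix fun k => ?_
  fin_cases k
  · rfl
  · rfl
  · exact map_one _
  · show Units.map σ.toMonoidHom (Units.map σ.toMonoidHom (1 : Kˣ)) = 1
    rw [map_one, map_one]

theorem cv_mem (hinv : ∀ x, σ (σ (σ x)) = x) (a : Kˣ) {b : Kˣ} (hb : σ b = b) :
    cv σ a b ∈ (D43.tw σ).thetaFix :=
  (D43.thetaFix_iff _).2 ⟨hinv _, hb, rfl, rfl⟩

theorem thetaFix_cv {c : Fin chevD4.rank → Kˣ} (hc : c ∈ (D43.tw σ).thetaFix) :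
    c = cv σ (c (ix 0)) (c (ix 1)) ∧ σ (c (ix 1) : K) = c (ix 1) := by
  obtain ⟨-, h1, h2, h3⟩ := (D43.thetaFix_iff c).1 hc
  refine ⟨D43.ext_ix fun k => ?_, h1⟩
  have key : ∀ k : Fin 4, (![c (ix 0), c (ix 1), Units.map σ.toMonoidHom (c (ix 0)),
      Units.map σ.toMonoidHom (Units.map σ.toMonoidHom (c (ix 0)))] : Fin 4 → Kˣ) k = c (ix k) := by
    intro k
    fin_cases k
    exacts [rfl, rfl, Units.ext h2, Units.ext ((congrArg σ h2).trans h3)]
  exact (key k).symm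

theorem cart_simple : ∀ i k : Fin 4, auxD4.cart i.val (sr true k).val =
    (D43.cm.getD i.val []).getD k.val 0 := by
  decide +kernel

theorem chi_sr (c : Fin chevD4.rank → Kˣ) :
    chi chevD4 auxD4 c (sr true 0).val = c (ix 0) ^ 2 * (c (ix 1))⁻¹ ∧
    chi chevD4 auxD4 c (sr true 2).val = c (ix 2) ^ 2 * (c (ix 1))⁻¹ ∧
    chi chevD4 auxD4 c (sr true 3).val = c (ix 3) ^ 2 * (c (ix 1))⁻¹ ∧
    chi chevD4 auxD4 c (sr true 1).val =
      c (ix 1) ^ 2 * ((c (ix 0))⁻¹ * (c (ix 2))⁻¹ * (c (ix 3))⁻¹) := by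
  have key : ∀ k : Fin 4, chi chevD4 auxD4 c (sr true k).val =
      ∏ i : Fin 4, c (ix i) ^ auxD4.cart i.val (sr true k).val := fun k => rfl
  simp only [key, cart_simple, Fin.prod_univ_four, D43.cm, List.getD_cons_zero, List.getD_cons_succ,
    Fin.val_zero, Fin.val_one, Fin.val_two, show ((3 : Fin 4) : ℕ) = 3 from rfl]
  refine ⟨?_, ?_, ?_, ?_⟩ <;> simp [zpow_ofNat, mul_comm, mul_assoc, mul_left_comm]

/-! ### the rank one subgroups of the two orbits -/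

/-- what is used of the subgroup `SL₂` of an orbit -/
structure Orb (σ : K →+* K) where
  φ : SL(2, K) →* G₄
  f : K →+* K
  R : Bool → Subgroup G₄
  R_le : ∀ b, R b ≤ UF σ b
  fix : ∀ x, SpecialLinearGroup.map f x = x → φ x ∈ (D43.tw σ).fix
  uf : ∀ b t, f t = t → φ (el b t) ∈ UF σ b
  split : ∀ b, ∀ v ∈ UF σ b, ∃ v' ∈ R b, ∃ t, f t = t ∧ v = v' * φ (el b t)
  conj : ∀ b x, SpecialLinearGroup.map f x = x → ∀ v ∈ R b, φ x * v * (φ x)⁻¹ ∈ R b
  A : (Fin chevD4.rank → Kˣ) → Kˣ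
  A_fix : ∀ c ∈ (D43.tw σ).thetaFix, f (A c : K) = A c
  tor_conj : ∀ c ∈ (D43.tw σ).thetaFix, ∀ x,
    tor chevD4 auxD4 c * φ x * (tor chevD4 auxD4 c)⁻¹ = φ (dtw (A c) x)
  δ : Kˣ → (Fin chevD4.rank → Kˣ)
  dsl : ∀ u, φ (dSL u) = tor chevD4 auxD4 (δ u)

theorem dSL_val (u : Kˣ) :
    ((dSL u : SL(2, K)) : Matrix (Fin 2) (Fin 2) K) = !![(u : K), 0; 0, ((u⁻¹ : Kˣ) : K)] := rfl

theorem dtw_map (f : K →+* K) (e : Kˣ) (he : f e = e) (x : SL(2, K)) :
    SpecialLinearGroup.map f (dtw e x) = dtw e (SpecialLinearGroup.map f x) := by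
  refine Subtype.ext ?_
  ext i j
  fin_cases i <;> fin_cases j <;>
    simp [dtw_val, dmat, SpecialLinearGroup.map_apply_coe, he, map_mul, map_inv₀]

/-- the orbit of three nodes -/
noncomputable def orbA (hinv : ∀ x, σ (σ (σ x)) = x) : Orb σ where
  φ := phiA σ
  f := RingHom.id K
  R b := Cmp true b ⊓ (D43.tw σ).fix
  R_le b := inf_le_inf_right _ (Cmp_le true b)
  fix x _ := phiA_fix hinv x
  uf b t _ := phiA_el_UF hinv b t
  split b v hv := by
    obtain ⟨v', hv', e⟩ := decompA_fix hinv b hv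
    exact ⟨v', hv', _, rfl, e⟩
  conj b x _ v hv := ⟨phiA_conj b x hv.1,
    Subgroup.mul_mem _ (Subgroup.mul_mem _ (phiA_fix hinv x) hv.2) (Subgroup.inv_mem _ (phiA_fix hinv x))⟩
  A c := chi chevD4 auxD4 c (sr true 0).val
  A_fix _ _ := rfl
  tor_conj c hc x := by
    obtain ⟨-, h1, h2, h3⟩ := (D43.thetaFix_iff c).1 hc
    obtain ⟨a0, a2, a3, -⟩ := chi_sr c
    have e2 : (chi chevD4 auxD4 c (sr true 2).val : K) = σ (chi chevD4 auxD4 c (sr true 0).val) := by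
      rw [a0, a2]; simp [map_mul, map_pow, map_inv₀, h1, h2]
    have e3 : (chi chevD4 auxD4 c (sr true 3).val : K) =
        σ (σ (chi chevD4 auxD4 c (sr true 0).val)) := by
      rw [a0, a3]; simp [map_mul, map_pow, map_inv₀, h1, h2, h3]
    have key : ∀ (e e' : Kˣ) (y : SL(2, K)), σ (e : K) = e' →
        SpecialLinearGroup.map σ (dtw e y) = dtw e' (SpecialLinearGroup.map σ y) := by
      intro e e' y h
      refine Subtype.ext ?_
      ext i j
      fin_cases i <;> fin_cases j <;>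
        simp [dtw_val, dmat, SpecialLinearGroup.map_apply_coe, h, map_mul, map_inv₀]
    rw [phiA_apply, phiA_apply, key _ _ x e2.symm, key _ (chi chevD4 auxD4 c (sr true 3).val) _ (by rw [e3, e2])]
    rw [← tor_conj_phiN c 0 x, ← tor_conj_phiN c 2 (SpecialLinearGroup.map σ x),
      ← tor_conj_phiN c 3 (SpecialLinearGroup.map σ (SpecialLinearGroup.map σ x))]
    group
  δ u := cv σ u 1
  dsl u := by
    have hm : ∀ u : Kˣ, SpecialLinearGroup.map σ (dSL u) = dSL (Units.map σ.toMonoidHom u) := by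
      intro u
      refine Subtype.ext ?_
      ext i j
      fin_cases i <;> fin_cases j <;> simp [dSL_val, SpecialLinearGroup.map_apply_coe, map_inv₀]
    rw [phiA_apply, hm, hm, phiN_dSL, phiN_dSL, phiN_dSL, ← map_mul, ← map_mul]
    congr 1
    refine D43.ext_ix fun k => ?_
    show (Pi.mulSingle 0 u * Pi.mulSingle 2 (Units.map σ.toMonoidHom u) *
      Pi.mulSingle 3 (Units.map σ.toMonoidHom (Units.map σ.toMonoidHom u)) : Fin 4 → Kˣ) k = _
    fin_cases k <;> simp [cv, ix]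

/-- the central node -/
noncomputable def orbB : Orb σ where
  φ := phiN 1
  f := σ
  R b := Cmp false b ⊓ (D43.tw σ).fix
  R_le b := inf_le_inf_right _ (Cmp_le false b)
  fix _ hx := phiN_one_fix hx
  uf b _ ht := phiB_el_UF b ht
  split b v hv := by
    obtain ⟨ht, v', hv', e⟩ := decompB_fix b hv
    exact ⟨v', hv', _, ht, e⟩
  conj b x hx v hv := ⟨phiB_conj b x hv.1,
    Subgroup.mul_mem _ (Subgroup.mul_mem _ (phiN_one_fix hx) hv.2) (Subgroup.inv_mem _ (phiN_one_fix hx))⟩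
  A c := chi chevD4 auxD4 c (sr true 1).val
  A_fix c hc := by
    obtain ⟨h0, h1, h2, h3⟩ := (D43.thetaFix_iff c).1 hc
    rw [(chi_sr c).2.2.2]
    simp [map_mul, map_pow, map_inv₀, h0, h1, h2, h3]; ring
  tor_conj c _ x := tor_conj_phiN c 1 x
  δ u := cv σ 1 u
  dsl u := by
    rw [phiN_dSL]
    congr 1
    refine D43.ext_ix fun k => ?_
    show (Pi.mulSingle 1 u : Fin 4 → Kˣ) k = _
    fin_cases k <;> simp [cv, ix]

/-! ### states -/

/-- `y` is conjugate to `v * t * w` for the torus element with coordinates `c` -/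
def St (σ : K →+* K) (y : G₄) (c : Fin chevD4.rank → Kˣ) : Prop :=
  ∃ x ∈ (D43.tw σ).fix, ∃ v ∈ UF σ false, ∃ w ∈ UF σ true, x * y * x⁻¹ = v * tor chevD4 auxD4 c * w

theorem el_false (t : K) : el false t = dn t := rfl
theorem el_true (t : K) : el true t = up t := rfl

/-- an element of the subgroup in front of the torus element -/
def OSt (O : Orb σ) (y : G₄) (c : Fin chevD4.rank → Kˣ) (g : SL(2, K)) : Prop :=
  ∃ x ∈ (D43.tw σ).fix, ∃ v ∈ O.R false, ∃ w ∈ O.R true,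
    x * y * x⁻¹ = v * O.φ g * tor chevD4 auxD4 c * w

theorem Orb.A_fix_inv (O : Orb σ) {c : Fin chevD4.rank → Kˣ} (hc : c ∈ (D43.tw σ).thetaFix) :
    O.f ((O.A c)⁻¹ : Kˣ) = ((O.A c)⁻¹ : Kˣ) := by
  rw [Units.val_inv_eq_inv_val, map_inv₀, O.A_fix c hc]

theorem Orb.ost_of_st (O : Orb σ) {y : G₄} {c : Fin chevD4.rank → Kˣ}
    (hc : c ∈ (D43.tw σ).thetaFix) (hs : St σ y c) :
    ∃ g, SpecialLinearGroup.map O.f g = g ∧ g.1 0 0 = 1 ∧ OSt O y c g := by
  obtain ⟨x, hx, v, hv, w, hw, e⟩ := hs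
  obtain ⟨v', hv', p, hp, rfl⟩ := O.split false v hv
  obtain ⟨w', hw', r, hr, rfl⟩ := O.split true w hw
  have hr' : SpecialLinearGroup.map O.f (el true r) = el true r := by rw [map_el, hr]
  have hw2 : O.φ (el true r)⁻¹ * w' * (O.φ (el true r)⁻¹)⁻¹ ∈ O.R true :=
    O.conj true _ (by rw [map_inv, hr']) _ hw'
  have hg : SpecialLinearGroup.map O.f (dn p * dtw (O.A c) (up r)) = dn p * dtw (O.A c) (up r) := by
    rw [dtw_up, map_mul, map_dn, map_up, map_mul, O.A_fix c hc, hp, hr]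
  refine ⟨_, hg, ?_, x, hx, v', hv', _, hw2, e.trans ?_⟩
  · simp [dtw_up, Matrix.mul_apply, Fin.sum_univ_two]
  · rw [map_mul, ← O.tor_conj c hc, el_false, el_true, map_inv, inv_inv]
    simp only [mul_assoc, inv_mul_cancel_left, mul_inv_cancel_left]

theorem Orb.ost_conj (O : Orb σ) {y : G₄} {c : Fin chevD4.rank → Kˣ}
    (hc : c ∈ (D43.tw σ).thetaFix) {g k : SL(2, K)} (hs : OSt O y c g)
    (hk : SpecialLinearGroup.map O.f k = k) :
    OSt O y c (k * g * (dtw (O.A c) k)⁻¹) := by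
  obtain ⟨x, hx, v, hv, w, hw, e⟩ := hs
  refine ⟨O.φ k * x, mul_mem (O.fix k hk) hx, _, O.conj false k hk v hv, _, O.conj true k hk w hw, ?_⟩
  rw [map_mul, map_mul, map_inv, ← O.tor_conj c hc]
  calc O.φ k * x * y * (O.φ k * x)⁻¹ = O.φ k * (x * y * x⁻¹) * (O.φ k)⁻¹ := by group
    _ = _ := by rw [e]; group

theorem Orb.st_of_ost (O : Orb σ) {y : G₄} {c : Fin chevD4.rank → Kˣ}
    (hc : c ∈ (D43.tw σ).thetaFix) {g : SL(2, K)} (hg : SpecialLinearGroup.map O.f g = g)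
    {u : Kˣ} (hu : g.1 0 0 = u) (hs : OSt O y c g) : St σ y (O.δ u * c) := by
  obtain ⟨x, hx, v, hv, w, hw, e⟩ := hs
  have hent : ∀ i j, O.f (g.1 i j) = g.1 i j := fun i j => by
    conv_rhs => rw [← hg]
    rfl
  have hu' : O.f (u : K) = u := by rw [← hu]; exact hent 0 0
  have hdec : g = dn (g.1 1 0 / (u : K)) * dSL u * up (g.1 0 1 / (u : K)) := by
    have hdet : g.1 0 0 * g.1 1 1 - g.1 0 1 * g.1 1 0 = 1 := by
      rw [← Matrix.det_fin_two, g.2]
    rw [hu] at hdet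
    have := u.ne_zero
    refine Subtype.ext ?_
    ext i j
    fin_cases i <;> fin_cases j <;> simp [dSL_val, Matrix.mul_apply, Fin.sum_univ_two, hu]
    all_goals field_simp
    linear_combination hdet
  set p := g.1 1 0 / (u : K) with hp
  set r := g.1 0 1 / (u : K) with hr
  have hp' : O.f p = p := by rw [hp, map_div₀, hent, hu']
  have hr' : O.f r = r := by rw [hr, map_div₀, hent, hu']
  set r' := ((O.A c)⁻¹ : Kˣ) * r with hr2
  have hr2' : O.f r' = r' := by rw [hr2, map_mul, O.A_fix_inv hc, hr']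
  have e2 : O.φ (up r) * tor chevD4 auxD4 c = tor chevD4 auxD4 c * O.φ (up r') := by
    rw [← eq_mul_inv_iff_mul_eq, O.tor_conj c hc, dtw_up, hr2, ← mul_assoc,
      Units.mul_inv, one_mul]
  refine ⟨x, hx, v * O.φ (dn p), mul_mem (O.R_le false hv) (O.uf false p hp'),
    O.φ (up r') * w, mul_mem (O.uf true r' hr2') (O.R_le true hw), e.trans ?_⟩
  calc v * O.φ g * tor chevD4 auxD4 c * w
      = v * O.φ (dn p) * O.φ (dSL u) * (O.φ (up r) * tor chevD4 auxD4 c) * w := by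
        conv_lhs => rw [hdec, map_mul, map_mul]
        simp only [mul_assoc]
    _ = _ := by rw [e2, O.dsl, map_mul]; simp only [mul_assoc]

theorem sl2_move {f : K →+* K} {g : SL(2, K)} (hg : SpecialLinearGroup.map f g = g)
    (h00 : g.1 0 0 = 1) {e : Kˣ} (he : f e = e) (he1 : e ≠ 1) {u : K} (hu : f u = u) :
    ∃ k, SpecialLinearGroup.map f k = k ∧ (k * g * (dtw e k)⁻¹).1 0 0 = u := by
  have hent : ∀ i j, f (g.1 i j) = g.1 i j := fun i j => by
    conv_rhs => rw [← hg]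
    rfl
  have hee : (e : K) ≠ 0 := e.ne_zero
  have he' : (1 : K) - (e : K)⁻¹ ≠ 0 := fun h => he1 (Units.ext (by
    rw [Units.val_one]; exact inv_eq_one.1 (sub_eq_zero.1 h).symm))
  by_cases h10 : g.1 1 0 = 0
  · by_cases h01 : g.1 0 1 = 0
    · refine ⟨up ((u - 1) / (1 - (e : K)⁻¹)) * dn 1, ?_, ?_⟩
      · rw [map_mul, map_up, map_dn, map_one, map_div₀, map_sub, map_sub, map_inv₀, hu, he, map_one]
      · have h11 : g.1 1 1 = 1 := by
          have hd := g.2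
          rw [Matrix.det_fin_two, h00, h10] at hd
          simpa using hd
        rw [map_mul, dtw_up, dtw_dn, _root_.mul_inv_rev]
        simp [Matrix.mul_apply, Fin.sum_univ_two, SpecialLinearGroup.coe_inv,
          Matrix.adjugate_fin_two, Matrix.vecMul, dotProduct, h00, h10, h01, h11]
        have he2 : (-1 : K) + e ≠ 0 := fun h => he1 (Units.ext (by
          rw [Units.val_one]; linear_combination h))
        field_simp
        ring_nf
        linear_combination (u - 1) * (mul_inv_cancel₀ he2)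
    · refine ⟨dn ((e : K) * (1 - u) / g.1 0 1), ?_, ?_⟩
      · rw [map_dn, map_div₀, map_mul, map_sub, map_one, hu, he, hent]
      · rw [dtw_dn]
        simp [Matrix.mul_apply, Fin.sum_univ_two, SpecialLinearGroup.coe_inv,
          Matrix.adjugate_fin_two, Matrix.vecMul, dotProduct, h00, h10]
        field_simp
        ring
  · refine ⟨up ((u - 1) / g.1 1 0), ?_, ?_⟩
    · rw [map_up, map_div₀, map_sub, map_one, hu, hent]
    · rw [dtw_up]
      simp [Matrix.mul_apply, Fin.sum_univ_two, SpecialLinearGroup.coe_inv,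
        Matrix.adjugate_fin_two, Matrix.vecMul, dotProduct, h00, h10]

/-- a non-trivial character lets the torus coordinate move anywhere -/
theorem Orb.move (O : Orb σ) {y : G₄} {c : Fin chevD4.rank → Kˣ}
    (hc : c ∈ (D43.tw σ).thetaFix) (hs : St σ y c) (hA : O.A c ≠ 1) {u : Kˣ}
    (hu : O.f (u : K) = u) : St σ y (O.δ u * c) := by
  obtain ⟨g, hg, h00, ho⟩ := O.ost_of_st hc hs
  obtain ⟨k, hk, e⟩ := sl2_move hg h00 (O.A_fix c hc) hA hu
  refine O.st_of_ost hc ?_ e (O.ost_conj hc ho hk)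
  rw [map_mul, map_mul, map_inv, dtw_map _ _ (O.A_fix c hc), hk, hg]

theorem fix_unit {u : Kˣ} (h : σ (u : K) = u) : Units.map σ.toMonoidHom u = u := Units.ext h

theorem moveA (hinv : ∀ x, σ (σ (σ x)) = x) {y : G₄} {a b : Kˣ} (hb : σ (b : K) = b)
    (hs : St σ y (cv σ a b)) (h : a ^ 2 ≠ b) (z : Kˣ) : St σ y (cv σ z b) := by
  have hA : (orbA hinv).A (cv σ a b) = a ^ 2 * b⁻¹ := (chi_sr (cv σ a b)).1
  have := (orbA hinv).move (cv_mem hinv a hb) hs
    (by rw [hA, ne_eq, mul_inv_eq_one]; exact h) (u := z * a⁻¹) rfl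
  change St σ y (cv σ (z * a⁻¹) 1 * cv σ a b) at this
  rwa [cv_mul, inv_mul_cancel_right, one_mul] at this

/-- the norm to the fixed field -/
noncomputable def Nm (σ : K →+* K) (a : Kˣ) : Kˣ :=
  a * Units.map σ.toMonoidHom a * Units.map σ.toMonoidHom (Units.map σ.toMonoidHom a)

theorem moveB (hinv : ∀ x, σ (σ (σ x)) = x) {y : G₄} {a b : Kˣ} (hb : σ (b : K) = b)
    (hs : St σ y (cv σ a b)) (h : b ^ 2 ≠ Nm σ a) {z : Kˣ} (hz : σ (z : K) = z) :
    St σ y (cv σ a z) := by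
  have hA : (orbB (σ := σ)).A (cv σ a b) = b ^ 2 * (Nm σ a)⁻¹ := by
    refine (chi_sr (cv σ a b)).2.2.2.trans ?_
    rw [Nm, _root_.mul_inv, _root_.mul_inv]
    rfl
  have := (orbB (σ := σ)).move (cv_mem hinv a hb) hs
    (by rw [hA, ne_eq, mul_inv_eq_one]; exact h) (u := z * b⁻¹)
    (by show σ _ = _; simp [map_mul, map_inv₀, hb, hz])
  change St σ y (cv σ 1 (z * b⁻¹) * cv σ a b) at this
  rwa [cv_mul, inv_mul_cancel_right, one_mul] at this

theorem Nm_one : Nm σ 1 = 1 := by simp [Nm]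

theorem Nm_fix {a : Kˣ} (h : σ (a : K) = a) : Nm σ a = a ^ 3 := by
  rw [Nm, fix_unit h, fix_unit h, pow_three, mul_assoc]

/-! ### the longest element -/

theorem long_tab : (ftabD43.any fun e => decide (e.cnt = 12) && (List.range 24).all fun r =>
    decide (wf auxD4 (foldD43.flat e.word) r = auxD4.neg r)) = true := by decide +kernel

theorem exists_long {F : Type*} [Field F] (_σ : F →+* F) : ∃ e ∈ ftabD43, e.cnt = chevD4.posRoots.length ∧
    ∀ r < chevD4.nroots, wf auxD4 (foldD43.flat e.word) r = auxD4.neg r := by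
  obtain ⟨e, he, h⟩ := List.any_eq_true.1 long_tab
  rw [Bool.and_eq_true, decide_eq_true_eq, List.all_eq_true] at h
  refine ⟨e, he, ?_, fun r hr => of_decide_eq_true (h.2 r (List.mem_range.2 hr))⟩
  rw [h.1, length_posRoots stdD4.good]; rfl

/-- the longest element of the fixed group -/
noncomputable def wz (σ : K →+* K) : G₄ :=
  nW K g₄ (foldD43.flat (exists_long σ).choose.word)

theorem wz_fix : wz σ ∈ (D43.tw σ).fix :=
  (D43.tw σ).nFlat_fix (ftabD43_ok.letters _ (exists_long σ).choose_spec.1)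

theorem wz_acts : ∃ s : ℕ → ℕ, Acts g₄ (wz σ) s ∧ ∀ r < chevD4.nroots, s r = auxD4.neg r :=
  ⟨_, nW_acts g₄ ((D43.tw σ).valid.flat_letters
    (ftabD43_ok.letters _ (exists_long σ).choose_spec.1)), (exists_long σ).choose_spec.2.2⟩

theorem wz_conj_pos {u : G₄} (hu : u ∈ Uni true) : wz σ * u * (wz σ)⁻¹ ∈ Uni false := by
  obtain ⟨s, hs, hn⟩ := wz_acts (σ := σ)
  rw [Uni_eq] at hu ⊢
  refine conj_UP_le hs (fun r hr => sgn_lt hr) (fun r t hr => xG_mem_UP g₄ ?_ t) hu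
  show chevD4.IsNegRoot (s r)
  rw [hn r (sgn_lt hr)]
  exact isNeg_of_not_pos g₄ (stdD4.good.neg_lt r (sgn_lt hr)) (not_pos_neg g₄ hr)

theorem wz_conj_neg {u : G₄} (hu : u ∈ Uni false) : wz σ * u * (wz σ)⁻¹ ∈ Uni true := by
  obtain ⟨s, hs, hn⟩ := wz_acts (σ := σ)
  rw [Uni_eq] at hu ⊢
  refine conj_UP_le hs (fun r hr => sgn_lt hr) (fun r t hr => xG_mem_UP g₄ ?_ t) hu
  show chevD4.IsPosRoot (s r)
  have hlt := sgn_lt hr
  rw [hn r hlt]
  exact (pos_or_pos_neg g₄ hlt).resolve_left (not_pos_of_isNeg g₄ hr)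

theorem wz_monomial : wz σ ∈ chevD4.monomialSubgroup K :=
  nW_mem g₄ ((D43.tw σ).valid.flat_letters (ftabD43_ok.letters _ (exists_long σ).choose_spec.1))

theorem wz_conj_tor (c : Fin chevD4.rank → Kˣ) :
    wz σ * tor chevD4 auxD4 c * (wz σ)⁻¹ = (tor chevD4 auxD4 c)⁻¹ := by
  obtain ⟨d, hd⟩ := monomial_conj_tor g₄ (wz_monomial (σ := σ)) c
  obtain ⟨s, hs, hn⟩ := wz_acts (σ := σ)
  rw [hd, eq_inv_iff_mul_eq_one, ← map_mul, tor_eq_one_iff g₄]
  funext k
  show chi chevD4 auxD4 (d * c) (chevD4.simple k) = 1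
  have hlt : chevD4.simple k < chevD4.nroots := stdD4.good.simple_lt k k.isLt
  have hnlt := stdD4.good.neg_lt _ hlt
  obtain ⟨κ, hκ, hconj⟩ := hs.conj _ hlt
  have h1 : xG g₄ (s (chevD4.simple k)) (κ * (chi chevD4 auxD4 c (chevD4.simple k) : K)) =
      xG g₄ (s (chevD4.simple k)) ((chi chevD4 auxD4 d (s (chevD4.simple k)) : K) * κ) := by
    rw [← tor_conj_xG g₄ d (hs.map.1 _ hlt), ← hd, ← hconj,
      show xG g₄ (s (chevD4.simple k)) κ =
        wz σ * xG g₄ (chevD4.simple k) 1 * (wz σ)⁻¹ by rw [hconj, mul_one],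
      show xG g₄ (chevD4.simple k) (chi chevD4 auxD4 c (chevD4.simple k) : K) =
        tor chevD4 auxD4 c * xG g₄ (chevD4.simple k) 1 * (tor chevD4 auxD4 c)⁻¹ by
          rw [tor_conj_xG g₄ c hlt, mul_one]]
    group
  have h2 := CfsgLib.KnownB.ChevField.xG_inj stdD4 (hs.map.1 _ hlt) h1
  have h3 : chi chevD4 auxD4 c (chevD4.simple k) = chi chevD4 auxD4 d (s (chevD4.simple k)) :=
    Units.ext (mul_left_cancel₀ hκ (h2.trans (mul_comm _ _)))
  rw [hn _ hlt, chi_neg g₄ d hlt] at h3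
  rw [chi_mul, h3, mul_inv_cancel]

variable [Fintype K] {q : ℕ}

theorem Nm_pow (hσ : ∀ x, σ x = x ^ q) (a : Kˣ) : Nm σ a = a ^ (q ^ 2 + q + 1) := by
  refine Units.ext ?_
  simp [Nm, hσ, ← pow_mul]
  ring

/-- a primitive element avoids both exceptional conditions -/
theorem exists_avoid (hσ : ∀ x, σ x = x ^ q) (hK : Fintype.card K = q ^ 3) (h3 : 3 ≤ q) :
    ∃ z : Kˣ, z ^ 2 ≠ 1 ∧ Nm σ z ≠ 1 := by
  obtain ⟨z, hz⟩ := IsCyclic.exists_ofOrder_eq_natCard (α := Kˣ)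
  rw [Nat.card_units, Nat.card_eq_fintype_card, hK] at hz
  have h27 : 3 * q ^ 2 ≤ q ^ 3 := by rw [pow_succ q 2, mul_comm]; exact Nat.mul_le_mul_left _ h3
  have hQ : 3 * q ≤ q ^ 2 := by rw [sq]; exact Nat.mul_le_mul_right _ h3
  refine ⟨z, fun e => ?_, fun e => ?_⟩
  · have := Nat.le_of_dvd (by norm_num) (hz ▸ orderOf_dvd_of_pow_eq_one e)
    omega
  · rw [Nm_pow hσ] at e
    have := Nat.le_of_dvd (by omega) (hz ▸ orderOf_dvd_of_pow_eq_one e)
    omega

/-- the diagonal part can be removed -/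
theorem St.to_one (hσ : ∀ x, σ x = x ^ q) (hK : Fintype.card K = q ^ 3) {y : G₄}
    {c : Fin chevD4.rank → Kˣ} (hc : c ∈ (D43.tw σ).thetaFix) (hs : St σ y c) : St σ y 1 := by
  have hinv := D43.invol hσ hK
  have h1 : σ ((1 : Kˣ) : K) = (1 : Kˣ) := by simp
  have hm1 : σ (((-1 : Kˣ)) : K) = (-1 : Kˣ) := by simp
  obtain ⟨e, hb⟩ := thetaFix_cv hc
  rw [e] at hs
  generalize c (ix 0) = a at hs
  generalize c (ix 1) = b at hs hb
  rw [← cv_one (σ := σ)]
  -- first the central coordinate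
  suffices key : ∀ a, St σ y (cv σ a 1) → St σ y (cv σ 1 1) by
    by_cases hb1 : b = 1
    · subst hb1; exact key a hs
    by_cases hB : b ^ 2 = Nm σ a
    · have hA : a ^ 2 ≠ b := by
        intro hA
        refine hb1 ?_
        have : Nm σ a ^ 2 = Nm σ b := by
          rw [← hA]; simp only [Nm, map_pow, mul_pow]
        rw [← hB, Nm_fix hb, ← pow_mul] at this
        calc b = b ^ 4 * (b ^ 3)⁻¹ := by rw [← div_eq_mul_inv, eq_div_iff_mul_eq', ← pow_succ']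
          _ = 1 := by rw [show b ^ 4 = b ^ 3 from this, mul_inv_cancel]
      by_cases hsq : b ^ 2 = 1
      · refine key (-1) (moveB hinv hb (moveA hinv hb hs hA (-1)) ?_ h1)
        rw [hsq, Nm_fix hm1]
        intro e2
        have hbm : (b : K) = -1 := by
          have : (b : K) ^ 2 = 1 := by rw [← Units.val_pow_eq_pow_val, hsq, Units.val_one]
          exact (sq_eq_one_iff.1 this).resolve_left fun e3 => hb1 (Units.ext e3)
        refine hb1 (Units.ext ?_)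
        rw [hbm, Units.val_one]
        have := congrArg Units.val e2
        simpa [pow_succ] using this.symm
      · exact key 1 (moveB hinv hb (moveA hinv hb hs hA 1) (by rwa [Nm_one]) h1)
    · exact key a (moveB hinv hb hs hB h1)
  intro a hs
  by_cases ha : a = 1
  · subst ha; exact hs
  by_cases hA : a ^ 2 = 1
  · have ham : a = -1 := by
      have : (a : K) ^ 2 = 1 := by rw [← Units.val_pow_eq_pow_val, hA, Units.val_one]
      exact Units.ext ((sq_eq_one_iff.1 this).resolve_left fun e3 => ha (Units.ext e3))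
    subst ham
    have hchar : (-1 : Kˣ) ≠ 1 := ha
    have h3 : 3 ≤ q := by
      have h2 := D43.two_le hK
      by_contra h
      obtain rfl : q = 2 := by omega
      have : CharP K 2 := charP_of_card_eq_prime_pow (f := 3) hK
      exact hchar (Units.ext (by simp [CharTwo.neg_eq]))
    obtain ⟨z, hz2, hzN⟩ := exists_avoid hσ hK h3
    have s1 : St σ y (cv σ (-1) (-1)) := moveB hinv h1 hs
      (by rw [one_pow, Nm_fix hm1]; intro e2; exact hchar (by simpa [pow_succ] using e2.symm)) hm1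
    have s2 : St σ y (cv σ z (-1)) := moveA hinv hm1 s1
      (by rw [neg_one_sq]; exact hchar.symm) z
    have s3 : St σ y (cv σ z 1) := moveB hinv hm1 s2 (by rw [neg_one_sq]; exact hzN.symm) h1
    exact moveA hinv h1 s3 hz2 1
  · exact moveA hinv h1 hs hA 1

/-! ### counting -/

theorem count_ineq {q : ℕ} (h : 2 ≤ q) :
    (q + 1) * (q ^ 3 + 1) * (q ^ 8 + q ^ 4 + 1) < 2 * q ^ 12 := by
  have h1 : 2 * q ^ 3 ≤ q ^ 4 := by rw [pow_succ q 3, mul_comm]; exact Nat.mul_le_mul_left _ h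
  have a8 : 4 * q ^ 2 ≤ q ^ 4 := by
    calc 4 * q ^ 2 ≤ q * q * q ^ 2 := Nat.mul_le_mul_right _ (Nat.mul_le_mul h h)
      _ = q ^ 4 := by ring
  by_cases h2 : q = 2
  · subst h2; norm_num
  have h3 : 3 ≤ q := by omega
  have b1 : 3 * (q + 1) ≤ 4 * q := by omega
  have b2 : 27 * (q ^ 3 + 1) ≤ 28 * q ^ 3 := by
    have : 27 ≤ q ^ 3 := Nat.pow_le_pow_left h3 3
    omega
  have b3 : 80 * (q ^ 8 + q ^ 4 + 1) ≤ 82 * q ^ 8 := by
    have h4 : 81 ≤ q ^ 4 := Nat.pow_le_pow_left h3 4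
    have h8 : q ^ 8 = q ^ 4 * q ^ 4 := by ring
    nlinarith
  have hb := Nat.mul_le_mul (Nat.mul_le_mul b1 b2) b3
  have e : (4 * q) * (28 * q ^ 3) * (82 * q ^ 8) = 9184 * q ^ 12 := by ring
  rw [e] at hb
  have hpos : 0 < q ^ 12 := by positivity
  nlinarith

theorem exists_cell (hσ : ∀ x, σ x = x ^ q) (hK : Fintype.card K = q ^ 3) {y : G₄} (hy : y ∈ (D43.tw σ).fix) :
    ∃ c ∈ (D43.tw σ).thetaFix, St σ y c := by
  classical
  have : Finite G₄ := finite_GL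
  haveI : Fintype ↥((D43.tw σ).fix) := Fintype.ofFinite _
  have hq := D43.two_le hK
  obtain ⟨he, hcnt, -⟩ := (exists_long σ).choose_spec
  have hV := (D43.tw σ).pos_eq_V ftabD43_ok he hcnt
  let U := chevD4.posUnipotent K ⊓ (D43.tw σ).fix
  let T := chevD4.diagonalSubgroup K ⊓ (D43.tw σ).fix
  let F : (↥U × ↥T) × ↥U → ↥((D43.tw σ).fix) := fun p =>
    ⟨p.1.1 * p.1.2 * wz σ * p.2,
      mul_mem (mul_mem (mul_mem p.1.1.2.2 p.1.2.2.2) wz_fix) p.2.2.2⟩
  have hF : Function.Injective F := by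
    rintro ⟨⟨⟨u, hu⟩, ⟨t, ht⟩⟩, ⟨v, hv⟩⟩ ⟨⟨⟨u', hu'⟩, ⟨t', ht'⟩⟩, ⟨v', hv'⟩⟩ h
    have h' : u * t * wz σ * v = u' * t' * wz σ * v' := congrArg Subtype.val h
    obtain ⟨rfl, rfl, -, rfl⟩ := (D43.tw σ).fix_unique ftabD43_ok hu.1 hu'.1 ht.1 ht'.1 he he
      (by rw [← hV]; exact hv) (by rw [← hV]; exact hv') h'
    rfl
  obtain ⟨hU, hX⟩ := D43.orders hσ hK
  have hcard : Nat.card ↥((D43.tw σ).fix) < 2 * Nat.card ((↥U × ↥T) × ↥U) := by
    rw [Nat.card_prod, Nat.card_prod, hU, hX, D43.card_diag hσ hK hq]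
    have h1 : q ^ 2 - 1 = (q + 1) * (q - 1) := by rw [← Nat.sq_sub_sq, one_pow]
    have h2 : q ^ 6 - 1 = (q ^ 3 + 1) * (q ^ 3 - 1) := by
      rw [← Nat.sq_sub_sq, one_pow, ← pow_mul]
    have hp : 0 < q ^ 12 * (q - 1) * (q ^ 3 - 1) := by
      have : 2 ^ 3 ≤ q ^ 3 := Nat.pow_le_pow_left hq 3
      have a1 : 0 < q - 1 := by omega
      have a2 : 0 < q ^ 3 - 1 := by omega
      positivity
    calc q ^ 12 * (q ^ 2 - 1) * (q ^ 6 - 1) * (q ^ 8 + q ^ 4 + 1)
        = q ^ 12 * (q - 1) * (q ^ 3 - 1) * ((q + 1) * (q ^ 3 + 1) * (q ^ 8 + q ^ 4 + 1)) := by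
          rw [h1, h2]; ring
      _ < q ^ 12 * (q - 1) * (q ^ 3 - 1) * (2 * q ^ 12) :=
          Nat.mul_lt_mul_of_pos_left (count_ineq hq) hp
      _ = _ := by ring
  -- two translates of the big cell meet
  obtain ⟨p, p', hpp⟩ : ∃ p p', y * (F p : G₄) = F p' := by
    by_contra h
    push Not at h
    let S : Sum ((↥U × ↥T) × ↥U) ((↥U × ↥T) × ↥U) → ↥((D43.tw σ).fix) :=
      Sum.elim F (fun p => ⟨y, hy⟩ * F p)
    have hS : Function.Injective S := by
      refine hF.sumElim (fun a b e => hF (mul_left_cancel e)) fun a b e => ?_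
      exact h b a (congrArg Subtype.val e).symm
    have := Nat.card_le_card_of_injective S hS
    rw [Nat.card_sum] at this
    omega
  obtain ⟨⟨⟨u₁, hu₁⟩, ⟨t₁, ht₁⟩⟩, ⟨v₁, hv₁⟩⟩ := p
  obtain ⟨⟨⟨u₂, hu₂⟩, ⟨t₂, ht₂⟩⟩, ⟨v₂, hv₂⟩⟩ := p'
  change y * (u₁ * t₁ * wz σ * v₁) = u₂ * t₂ * wz σ * v₂ at hpp
  have htd : t₂ * t₁⁻¹ ∈ T := mul_mem ht₂ (inv_mem ht₁)
  have hT' : ∀ t ∈ T, ∃ c ∈ (D43.tw σ).thetaFix, tor chevD4 auxD4 c = t := by
    intro t ht
    rw [show T = _ from D43.diag_eq] at ht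
    exact ht
  obtain ⟨c, hc, ec⟩ := hT' _ htd
  obtain ⟨c₁, hc₁, ec₁⟩ := hT' _ ht₁
  set n := wz σ * (v₂ * v₁⁻¹) * (wz σ)⁻¹
  have hn : n ∈ UF σ false :=
    ⟨wz_conj_pos (show v₂ * v₁⁻¹ ∈ Uni true from mul_mem hv₂.1 (inv_mem hv₁.1)),
      Subgroup.mul_mem _ (Subgroup.mul_mem _ wz_fix (Subgroup.mul_mem _ hv₂.2 (Subgroup.inv_mem _ hv₁.2)))
        (Subgroup.inv_mem _ wz_fix)⟩
  have hw : u₁⁻¹ * u₂ ∈ UF σ true :=
    ⟨Subgroup.mul_mem _ (Subgroup.inv_mem _ hu₁.1) hu₂.1, Subgroup.mul_mem _ (Subgroup.inv_mem _ hu₁.2) hu₂.2⟩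
  have hn' := tor_conj_UF hc false (tor_conj_UF hc₁ false hn)
  rw [ec, ec₁] at hn'
  refine ⟨c, hc, (u₁⁻¹ * u₂)⁻¹ * u₁⁻¹, Subgroup.mul_mem _ (Subgroup.inv_mem _ hw.2) (Subgroup.inv_mem _ hu₁.2),
    _, hn', _, hw, ?_⟩
  have hy' : y = u₂ * t₂ * n * t₁⁻¹ * u₁⁻¹ := by
    rw [show y = u₂ * t₂ * wz σ * v₂ * (u₁ * t₁ * wz σ * v₁)⁻¹ by rw [← hpp]; group]
    simp only [n]
    group
  rw [ec, hy']
  group

/-- every element is conjugate to a product of two unipotent elements -/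
theorem exists_vw (hσ : ∀ x, σ x = x ^ q) (hK : Fintype.card K = q ^ 3) {y : G₄} (hy : y ∈ (D43.tw σ).fix) :
    ∃ x ∈ (D43.tw σ).fix, ∃ v ∈ UF σ false, ∃ w ∈ UF σ true, x * y * x⁻¹ = v * w := by
  obtain ⟨c, hc, hs⟩ := exists_cell hσ hK hy
  obtain ⟨x, hx, v, hv, w, hw, e⟩ := hs.to_one hσ hK hc
  exact ⟨x, hx, v, hv, w, hw, by rwa [map_one, mul_one] at e⟩

end CfsgLib.ThompsonD43
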