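import Cfsg.Agent.Lib.Chev.D4Torus.Rank1
import Cfsg.Agent.Lib.Chev.OrdList
import Cfsg.Agent.Lib.Chev.RegularTorus

/-!
Coordinates at the fundamental roots of `D₄`, their behaviour under triality, and the rank one
subgroups attached to the two orbits of nodes.
-/

set_option autoImplicit false
set_option maxRecDepth 100000

namespace CfsgLib.ThompsonD43

open Cfsg.Lie Matrix CfsgLib.Chev CfsgLib.Chev.OrdList
open CfsgLib.Steinberg.R1Data (up dn)
open scoped MatrixGroups

variable {K : Type*} [Field K]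

local notation "g₄" => stdD4.good
local notation "G₄" => GL chevD4.Idx K

/-- a node -/
abbrev Node := Fin 4

/-- the fundamental root of a node and its negative -/
def sr : Bool → Fin 4 → Fin 24
  | true, i => ([18, 14, 13, 12] : List (Fin 24)).getD i.val 0
  | false, i => ([5, 9, 10, 11] : List (Fin 24)).getD i.val 0

/-- the height of a root -/
noncomputable def ht4 (r : ℕ) : ℤ := ((List.range 4).map fun j => auxD4.a r j).sum

/-- the height of a numbered coordinate -/
noncomputable def hN (k : ℕ) : ℤ := if k < 4 then 0 else ht4 (k - 4)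

/-- the height of a coordinate -/
noncomputable def hW (x : chevD4.Idx) : ℤ := hN (idx chevD4 x)

theorem col_height : ∀ r : Fin 24, ∀ c : Fin 28,
    (auxD4.col chevD4.rank chevD4.nroots r.val c.val).all (fun q =>
      decide (hN q.1 = hN c.val + (q.2.2 : ℤ) * ht4 r.val ∧ 1 ≤ q.2.2)) = true := by
  decide +kernel

theorem x_triH {r : ℕ} (hr : r < chevD4.nroots) (t : K) {σ : ℤ} (hcb : 0 < σ * ht4 r) :
    Tri (fun x => σ * hW x) 0 (chevD4.x K r t) := by
  intro x y hxy
  have h := congrFun (x_mulVec (F := K) stdD4.good hr t (idx chevD4 y)) x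
  rw [mulVec_ev] at h
  refine h.trans ?_
  rw [Pi.add_apply, tval_apply, List.sum_eq_zero, add_zero]
  · by_cases e : x = y
    · subst e; simp [ev]
    · have e2 : idx chevD4 x ≠ idx chevD4 y := fun e' => e (idx_inj e')
      simp [ev, e, e2]
  · intro v hv
    obtain ⟨q, hq, rfl⟩ := List.mem_map.1 hv
    rw [if_neg]
    intro e
    have hy : idx chevD4 y < 28 := by
      rcases y with i | s
      · exact lt_of_lt_of_le (show i.val < 4 from i.isLt) (by norm_num)
      · exact Nat.add_lt_add_left (show s.val < 24 from s.isLt) 4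
    have hc := List.all_eq_true.1 (col_height ⟨r, hr⟩ ⟨idx chevD4 y, hy⟩) q hq
    obtain ⟨h1, h2⟩ := of_decide_eq_true hc
    dsimp only at h1
    rw [← e] at h1
    have h3 : (1 : ℤ) ≤ (q.2.2 : ℤ) := by exact_mod_cast h2
    have h4 : σ * hW x = σ * hW y + (q.2.2 : ℤ) * (σ * ht4 r) := by
      simp only [hW]; rw [h1]; ring
    dsimp only at hxy
    nlinarith

/-- the sign of a side -/
def sb (b : Bool) : ℤ := if b then 1 else -1

/-- the coordinate at a fundamental root -/
noncomputable def cf (b : Bool) (i : Fin 4) (v : G₄) : K :=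
  (auxD4.coro (sr b i).val i.val : K) *
    v.val (Sum.inl i) (Sum.inr ⟨auxD4.neg (sr b i).val, stdD4.good.neg_lt _ (sr b i).isLt⟩)

theorem sr_tab : ∀ (b : Bool) (i : Fin 4),
    auxD4.coro (sr b i).val i.val * auxD4.coro (sr b i).val i.val = 1 ∧
      hN (4 + auxD4.neg (sr b i).val) = -sb b := by
  decide +kernel

theorem cf_xG (b : Bool) (i : Fin 4) {s : ℕ} (hs : s < chevD4.nroots) (t : K) :
    cf b i (xG g₄ s t) = if s = (sr b i).val then t else 0 := by
  have hr : (sr b i).val < chevD4.nroots := (sr b i).isLt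
  by_cases e : s = (sr b i).val
  · subst e
    rw [if_pos rfl, cf, xG_val]
    erw [x_entry g₄ hr t i]
    rw [mul_left_comm, ← Int.cast_mul, (sr_tab b i).1,
      Int.cast_one, mul_one]
  · rw [if_neg e, cf, xG_val, ChevalleyDatum.x, dif_pos hs, ChevalleyDatum.xMat]
    simp only [Matrix.of_apply]
    rw [mul_eq_zero]
    right
    split_ifs with h1 h2
    · rfl
    · exfalso
      refine e ?_
      have h2' : auxD4.neg (sr b i).val = chevD4.neg s := h2
      rw [(g₄).neg_eq s hs] at h2'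
      rw [← (g₄).neg_neg s hs, ← h2', (g₄).neg_neg _ hr]
    · rfl

/-- entries one step apart are additive -/
theorem entry_add {w : chevD4.Idx → ℤ} {M N : Matrix chevD4.Idx chevD4.Idx K} {x y : chevD4.Idx}
    (hxy : w x = w y + 1) (hM : Tri w 0 M) (hN : Tri w 0 N) : (M * N) x y = M x y + N x y := by
  have hne : x ≠ y := fun e => by subst e; omega
  rw [Matrix.mul_apply, Fintype.sum_eq_add x y hne]
  · rw [hM x x (by omega), hN y y (by omega), if_pos rfl, if_pos rfl, one_mul, mul_one, add_comm]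
  · rintro z ⟨hzx, hzy⟩
    by_cases hz : w z ≤ w y
    · rw [hN z y (by omega), if_neg hzy, mul_zero]
    · rw [hM x z (by omega), if_neg (Ne.symm hzx), zero_mul]

/-- the unipotent subgroup of a sign -/
noncomputable def Uni (b : Bool) : Subgroup G₄ :=
  if b then chevD4.posUnipotent K else chevD4.negUnipotent K

theorem Uni_true : (Uni true : Subgroup G₄) = chevD4.posUnipotent K := rfl
theorem Uni_false : (Uni false : Subgroup G₄) = chevD4.negUnipotent K := rfl

theorem Uni_eq (b : Bool) : (Uni b : Subgroup G₄) =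
    UP K g₄ (fun r => if b then chevD4.IsPosRoot r else chevD4.IsNegRoot r) := by
  cases b
  · rw [Uni_false, negUnipotent_eq g₄]; rfl
  · rw [Uni_true, posUnipotent_eq g₄]; rfl

theorem sgn_lt {b : Bool} {r : ℕ} (h : if b then chevD4.IsPosRoot r else chevD4.IsNegRoot r) :
    r < chevD4.nroots := by
  cases b
  · exact h.1
  · exact h.1

theorem ht4_sgn : ∀ r : Fin 24,
    (chevD4.IsPosRoot r.val → 0 < 1 * ht4 r.val) ∧ (chevD4.IsNegRoot r.val → 0 < -1 * ht4 r.val) := by
  decide +kernel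

theorem Uni_tri (b : Bool) {u : G₄} (hu : u ∈ Uni b) : u ∈ triG (fun x => sb b * hW x) 0 le_rfl := by
  have h : (Uni b : Subgroup G₄) ≤ triG (fun x => sb b * hW x) 0 le_rfl := by
    rw [Uni_eq]
    refine UP_le fun r t hr => ?_
    have hlt := sgn_lt hr
    have hp : 0 < sb b * ht4 r := by
      cases b
      · exact (ht4_sgn ⟨r, hlt⟩).2 hr
      · exact (ht4_sgn ⟨r, hlt⟩).1 hr
    refine ⟨?_, ?_⟩
    · rw [xG_val]; exact x_triH hlt t hp
    · rw [xG_inv, xG_val]; exact x_triH hlt (-t) hp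
  exact h hu

theorem cf_mul (b : Bool) (i : Fin 4) {u v : G₄} (hu : u ∈ Uni b) (hv : v ∈ Uni b) :
    cf b i (u * v) = cf b i u + cf b i v := by
  obtain ⟨-, hc⟩ := sr_tab b i
  rw [cf, cf, cf, ← mul_add, Units.val_mul]
  congr 1
  refine entry_add (w := fun x => sb b * hW x) ?_ (Uni_tri b hu).1 (Uni_tri b hv).1
  show sb b * hN i.val = sb b * hN (4 + auxD4.neg (sr b i).val) + 1
  rw [hc, show hN i.val = 0 from if_pos i.isLt]
  cases b <;> rfl

theorem cf_one (b : Bool) (i : Fin 4) : cf b i (1 : G₄) = 0 := by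
  simp [cf]

theorem cf_inv (b : Bool) (i : Fin 4) {u : G₄} (hu : u ∈ Uni b) : cf b i u⁻¹ = -cf b i u := by
  have h := cf_mul b i hu (inv_mem hu)
  rw [mul_inv_cancel, cf_one] at h
  linear_combination -h

/-- induction on a unipotent subgroup -/
theorem Uni_induction {b : Bool} {p : G₄ → Prop}
    (hx : ∀ r t, (if b then chevD4.IsPosRoot r else chevD4.IsNegRoot r) → p (xG g₄ r t))
    (h1 : p 1) (hm : ∀ u v, u ∈ Uni b → v ∈ Uni b → p u → p v → p (u * v))
    (hi : ∀ u, u ∈ Uni b → p u → p u⁻¹) {u : G₄} (hu : u ∈ Uni b) : p u := by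
  rw [Uni_eq] at hu
  refine (Subgroup.closure_induction (p := fun x _ => x ∈ Uni b ∧ p x) ?_ ⟨one_mem _, h1⟩ ?_ ?_ hu).2
  · rintro _ ⟨r, t, hr, rfl⟩
    refine ⟨?_, hx r t hr⟩
    rw [Uni_eq]; exact xG_mem_UP g₄ hr t
  · rintro x y _ _ ⟨hx', px⟩ ⟨hy', py⟩
    exact ⟨mul_mem hx' hy', hm _ _ hx' hy' px py⟩
  · rintro x _ ⟨hx', px⟩
    exact ⟨inv_mem hx', hi _ hx' px⟩

/-! ### triality -/

/-- the next node -/
def nx : Fin 4 → Fin 4 := fun i => ([2, 1, 3, 0] : List (Fin 4)).getD i.val 0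

theorem sr_r : ∀ (b : Bool) (i : Fin 4), foldD43.r (sr b i).val = (sr b (nx i)).val ∧
    symD4a.e (sr b i).val = 1 := by decide +kernel

variable {σ : K →+* K}

theorem maps_Uni (b : Bool) {u : G₄} (hu : u ∈ Uni b) :
    ∃ z ∈ Uni b, (D43.tw σ).Maps u z ∧ ∀ i, cf b (nx i) z = σ (cf b i u) := by
  refine Uni_induction (p := fun u => ∃ z ∈ Uni b, (D43.tw σ).Maps u z ∧
    ∀ i, cf b (nx i) z = σ (cf b i u)) ?_ ?_ ?_ ?_ hu
  · intro r t hr
    have hlt := sgn_lt hr
    refine ⟨_, ?_, (D43.tw σ).maps_xG hlt t, fun i => ?_⟩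
    · rw [Uni_eq]
      refine xG_mem_UP g₄ ?_ _
      cases b
      · refine isNeg_of_not_pos g₄ ((D43.tw σ).valid.r_lt r hlt) fun hp => ?_
        exact not_pos_of_isNeg g₄ hr ((Fold.Valid.r_posIff g₄ (D43.tw σ).valid hlt).1 hp)
      · exact (D43.tw σ).valid.r_pos r hr
    · rw [cf_xG b _ ((D43.tw σ).valid.r_lt r hlt), cf_xG b i hlt, ← (sr_r b i).1]
      by_cases e : r = (sr b i).val
      · subst e
        rw [if_pos rfl, if_pos rfl, D43.phi_eq (sr_r b i).2]
      · rw [if_neg e, if_neg, map_zero]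
        intro e'
        refine e ?_
        have hall : ∀ a c : Fin 24, foldD43.r a.val = foldD43.r c.val → a = c := by decide +kernel
        exact congrArg Fin.val (hall ⟨r, hlt⟩ (sr b i) e')
  · exact ⟨1, one_mem _, (D43.tw σ).maps_one, fun i => by rw [cf_one, cf_one, map_zero]⟩
  · rintro u v hu hv ⟨z, hz, hm, hc⟩ ⟨z', hz', hm', hc'⟩
    exact ⟨z * z', mul_mem hz hz', Twist.Maps.mul _ hm hm', fun i => by
      rw [cf_mul b _ hz hz', cf_mul b _ hu hv, map_add, hc, hc']⟩
  · rintro u hu ⟨z, hz, hm, hc⟩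
    exact ⟨z⁻¹, inv_mem hz, Twist.Maps.inv _ hm, fun i => by
      rw [cf_inv b _ hz, cf_inv b _ hu, map_neg, hc]⟩

theorem cf_fix (b : Bool) {u : G₄} (hu : u ∈ Uni b) (hf : u ∈ (D43.tw σ).fix) (i : Fin 4) :
    cf b (nx i) u = σ (cf b i u) := by
  obtain ⟨z, -, hm, hc⟩ := maps_Uni (σ := σ) b hu
  rw [Twist.Maps.fun_eq _ hf hm]
  conv_rhs => rw [← Twist.Maps.fun_eq _ hf hm]
  exact hc i

end CfsgLib.ThompsonD43
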