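import Cfsg.Agent.Lib.KnownB.ThompsonD43.Cell
import Cfsg.Agent.Lib.KnownB.Thompson.Cover

/-!
For `q ≥ 4` a regular element of the split torus squares onto the non identity elements.
-/

set_option autoImplicit false
set_option maxRecDepth 100000

namespace CfsgLib.ThompsonD43

open Cfsg.Lie Matrix CfsgLib.Chev CfsgLib.Thompson
open CfsgLib.Chev.D43 (ix)

variable {K : Type*} [Field K] {σ : K →+* K}

local notation "g₄" => stdD4.good
local notation "G₄" => GL chevD4.Idx K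

/-- the conclusion for one element -/
def Done (σ : K →+* K) (x y : G₄) : Prop :=
  ∃ a ∈ (D43.tw σ).fix, ∃ b ∈ (D43.tw σ).fix, y = (a * x * a⁻¹) * (b * x * b⁻¹)

theorem chi_inv (c : Fin chevD4.rank → Kˣ) (r : ℕ) :
    chi chevD4 auxD4 c⁻¹ r = (chi chevD4 auxD4 c r)⁻¹ := by
  rw [eq_inv_iff_mul_eq_one, ← chi_mul, inv_mul_cancel, chi_one]

theorem UF_wz_neg {u : G₄} (hu : u ∈ UF σ false) : wz σ * u * (wz σ)⁻¹ ∈ UF σ true :=
  ⟨wz_conj_neg hu.1, Subgroup.mul_mem _ (Subgroup.mul_mem _ wz_fix hu.2) (Subgroup.inv_mem _ wz_fix)⟩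

theorem fpf_regular {c : Fin chevD4.rank → Kˣ} (hc : c ∈ (D43.tw σ).thetaFix)
    (hreg : ∀ r < chevD4.nroots, chi chevD4 auxD4 c r ≠ 1) (b : Bool) :
    Fpf (UF σ b) (tor chevD4 auxD4 c) := by
  refine ⟨fun r hr => tor_conj_UF hc b hr, fun r hr e => ?_⟩
  have e' : tor chevD4 auxD4 c * r * (tor chevD4 auxD4 c)⁻¹ = r := by rw [e, mul_inv_cancel_right]
  cases b with
  | true => exact pos_fixed_eq_one stdD4 c hreg hr.1 e'
  | false =>
    have h : wz σ * r * (wz σ)⁻¹ = 1 := by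
      refine pos_fixed_eq_one stdD4 c⁻¹ (fun s hs h => hreg s hs ?_) (UF_wz_neg hr).1 ?_
      · rwa [chi_inv, inv_eq_one] at h
      · rw [map_inv, ← wz_conj_tor (σ := σ)]
        conv_rhs => rw [← e']
        group
    exact conj_eq_one_iff.1 h

variable [Fintype K] {q : ℕ}

/-- covering by a regular torus element -/
theorem done_regular (hσ : ∀ x, σ x = x ^ q) (hK : Fintype.card K = q ^ 3)
    {c : Fin chevD4.rank → Kˣ} (hc : c ∈ (D43.tw σ).thetaFix)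
    (hreg : ∀ r < chevD4.nroots, chi chevD4 auxD4 c r ≠ 1) {y : G₄} (hy : y ∈ (D43.tw σ).fix) :
    Done σ (tor chevD4 auxD4 c) y := by
  have : Finite G₄ := finite_GL
  obtain ⟨x, hx, v, hv, w, hw, e⟩ := exists_vw hσ hK hy
  refine cover_two (X := (D43.tw σ).fix) (Rn := UF σ false) (Rp := UF σ true) inf_le_right inf_le_right
    (fpf_regular hc hreg false) (fpf_regular hc hreg true).inv
    ⟨1, one_mem _, by group⟩ ⟨wz σ, wz_fix, wz_conj_tor c⟩ hv hw ⟨x, hx, ?_⟩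
  rw [e, mul_inv_cancel, mul_one]

/-- exponents -/
theorem exp_tab : ∀ r : Fin 24, ∀ e0 e1 e2 e3 : ℤ, e0 = auxD4.cart 0 r.val → e1 = auxD4.cart 1 r.val →
    e2 = auxD4.cart 2 r.val → e3 = auxD4.cart 3 r.val →
    ((e0 = e2 ∧ e2 = e3) ∧ (e1 = 1 ∨ e1 = -1 ∨ e1 = 2 ∨ e1 = -2)) ∨
    ((2 * e3 - e0 - e2).natAbs ≤ 4 ∧ (e0 + e3 - 2 * e2).natAbs ≤ 4 ∧
      (e0 + e3 - 2 * e2 = 0 ∧ 2 * e3 - e0 - e2 ≠ 0 ∨
        (2 * e3 - e0 - e2).natAbs < 4 * (e0 + e3 - 2 * e2).natAbs)) := by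
  have key : ∀ r : Fin 24,
      ((auxD4.cart 0 r.val = auxD4.cart 2 r.val ∧ auxD4.cart 2 r.val = auxD4.cart 3 r.val) ∧
        (auxD4.cart 1 r.val = 1 ∨ auxD4.cart 1 r.val = -1 ∨ auxD4.cart 1 r.val = 2 ∨
          auxD4.cart 1 r.val = -2)) ∨
      ((2 * auxD4.cart 3 r.val - auxD4.cart 0 r.val - auxD4.cart 2 r.val).natAbs ≤ 4 ∧
        (auxD4.cart 0 r.val + auxD4.cart 3 r.val - 2 * auxD4.cart 2 r.val).natAbs ≤ 4 ∧
        (auxD4.cart 0 r.val + auxD4.cart 3 r.val - 2 * auxD4.cart 2 r.val = 0 ∧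
            2 * auxD4.cart 3 r.val - auxD4.cart 0 r.val - auxD4.cart 2 r.val ≠ 0 ∨
          (2 * auxD4.cart 3 r.val - auxD4.cart 0 r.val - auxD4.cart 2 r.val).natAbs <
            4 * (auxD4.cart 0 r.val + auxD4.cart 3 r.val - 2 * auxD4.cart 2 r.val).natAbs)) := by
    decide +kernel
  intro r e0 e1 e2 e3 h0 h1 h2 h3
  subst h0 h1 h2 h3
  exact key r

theorem zero_of_small {Q c0 c1 : ℤ} (hQ : 4 ≤ Q) (h0 : c0.natAbs ≤ 4) (h1 : c1.natAbs ≤ 4)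
    (h : c1 = 0 ∧ c0 ≠ 0 ∨ c0.natAbs < 4 * c1.natAbs) :
    ¬ (Q ^ 2 + Q + 1) ∣ c0 + c1 * Q := by
  intro hd
  have a0 : |c0| ≤ 4 := by rw [Int.abs_eq_natAbs]; exact_mod_cast h0
  have a1 : |c1| ≤ 4 := by rw [Int.abs_eq_natAbs]; exact_mod_cast h1
  have hb : |c0 + c1 * Q| < Q ^ 2 + Q + 1 := by
    have := abs_add_le c0 (c1 * Q)
    have h2 : |c1 * Q| ≤ 4 * Q := by
      rw [abs_mul, abs_of_nonneg (by omega : (0 : ℤ) ≤ Q)]
      exact mul_le_mul_of_nonneg_right a1 (by omega)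
    nlinarith
  have hz := Int.eq_zero_of_abs_lt_dvd hd hb
  rcases h with ⟨rfl, hc⟩ | h
  · simp at hz; exact hc hz
  · have e : c0.natAbs = c1.natAbs * Q.natAbs := by
      rw [← Int.natAbs_mul, show c0 = -(c1 * Q) by linarith, Int.natAbs_neg]
    have : 4 * c1.natAbs ≤ c0.natAbs := by
      rw [e, mul_comm]; exact Nat.mul_le_mul_left _ (by omega)
    omega

/-- a regular torus element for `q ≥ 4` -/
theorem exists_regular (hσ : ∀ x, σ x = x ^ q) (hK : Fintype.card K = q ^ 3) (h4 : 4 ≤ q) :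
    ∃ c ∈ (D43.tw σ).thetaFix, ∀ r < chevD4.nroots, chi chevD4 auxD4 c r ≠ 1 := by
  obtain ⟨g, hg⟩ := IsCyclic.exists_ofOrder_eq_natCard (α := Kˣ)
  rw [Nat.card_units, Nat.card_eq_fintype_card, hK] at hg
  have hb : σ ((g ^ (q ^ 2 + q + 1) : Kˣ) : K) = (g ^ (q ^ 2 + q + 1) : Kˣ) := by
    have h1 : (g ^ (q ^ 2 + q + 1)) ^ q = g ^ (q ^ 2 + q + 1) := by
      rw [← pow_mul, show (q ^ 2 + q + 1) * q = (q ^ 3 - 1) + (q ^ 2 + q + 1) by
        have : 1 ≤ q ^ 3 := Nat.one_le_pow _ _ (by omega)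
        have e : (q ^ 2 + q + 1) * q = q ^ 3 + q ^ 2 + q := by ring
        omega, pow_add, ← hg, pow_orderOf_eq_one, one_mul]
    rw [hσ, ← Units.val_pow_eq_pow_val, h1]
  set a : Kˣ := g ^ (q - 1) with ha
  set b : Kˣ := g ^ (q ^ 2 + q + 1) with hbdef
  refine ⟨cv σ a b, cv_mem (D43.invol hσ hK) a hb, fun r hr hone => ?_⟩
  have hs1 : Units.map σ.toMonoidHom a = a ^ q := Units.ext (by simp [hσ])
  have hchi : chi chevD4 auxD4 (cv σ a b) r = g ^ (((q : ℤ) - 1) * (auxD4.cart 0 r +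
      q * auxD4.cart 2 r + (q : ℤ) * q * auxD4.cart 3 r) +
        ((q : ℤ) ^ 2 + q + 1) * auxD4.cart 1 r) := by
    show ∏ i : Fin 4, cv σ a b (ix i) ^ auxD4.cart i.val r = _
    rw [Fin.prod_univ_four]
    show a ^ auxD4.cart 0 r * b ^ auxD4.cart 1 r * Units.map σ.toMonoidHom a ^ auxD4.cart 2 r *
      Units.map σ.toMonoidHom (Units.map σ.toMonoidHom a) ^ auxD4.cart 3 r = _
    rw [hs1, map_pow, hs1, ha, hbdef]
    simp only [← pow_mul]
    simp only [← zpow_natCast, ← _root_.zpow_mul, ← _root_.zpow_add]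
    congr 1
    push_cast [Nat.cast_sub (show 1 ≤ q by omega)]
    ring
  rw [hchi, ← orderOf_dvd_iff_zpow_eq_one, hg] at hone
  have h1le : 1 ≤ q ^ 3 := Nat.one_le_pow _ _ (by omega)
  push_cast [Nat.cast_sub h1le] at hone
  rcases exp_tab ⟨r, hr⟩ _ _ _ _ rfl rfl rfl rfl with ⟨⟨e02, e23⟩, he1⟩ | ⟨c0, c1, hc⟩
  · dsimp only at e02 e23 he1
    rw [e02, e23, show ((q : ℤ) - 1) * (auxD4.cart 3 r + q * auxD4.cart 3 r + q * q * auxD4.cart 3 r) +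
      ((q : ℤ) ^ 2 + q + 1) * auxD4.cart 1 r =
      ((q : ℤ) ^ 2 + q + 1) * (((q : ℤ) - 1) * auxD4.cart 3 r + auxD4.cart 1 r) by ring,
      show ((q : ℤ) ^ 3 - 1) = ((q : ℤ) ^ 2 + q + 1) * ((q : ℤ) - 1) by ring,
      mul_dvd_mul_iff_left (by positivity), dvd_add_right (dvd_mul_right _ _)] at hone
    have := Int.natAbs_dvd_natAbs.2 hone
    have hle := Nat.le_of_dvd (by rcases he1 with h | h | h | h <;> rw [h] <;> decide) this
    rcases he1 with h | h | h | h <;> rw [h] at hle <;> simp at hle <;> omega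
  · dsimp only at c0 c1 hc
    refine zero_of_small (Q := (q : ℤ)) (by exact_mod_cast h4) c0 c1 hc ?_
    have h2 : ((q : ℤ) ^ 2 + q + 1) ∣ ((q : ℤ) - 1) * (auxD4.cart 0 r +
        q * auxD4.cart 2 r + (q : ℤ) * q * auxD4.cart 3 r) := by
      refine (dvd_add_left (dvd_mul_right _ (auxD4.cart 1 r))).1 (dvd_trans ?_ hone)
      exact ⟨(q : ℤ) - 1, by ring⟩
    have h3 := dvd_sub h2 (dvd_mul_right ((q : ℤ) ^ 2 + q + 1)
      (auxD4.cart 3 r * ((q : ℤ) - 1) + (auxD4.cart 2 r - auxD4.cart 3 r)))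
    refine Eq.subst (motive := fun z => ((q : ℤ) ^ 2 + q + 1) ∣ z) ?_ h3
    ring

omit [Fintype K] in
theorem coprime_order {p : ℕ} [Fact p.Prime] {x : G₄} {n : ℕ} (hx : x ^ n = 1) (hn : ¬ p ∣ n) :
    ¬ p ∣ orderOf x := fun h => hn (h.trans (orderOf_dvd_of_pow_eq_one hx))

/-- the statement for one choice of element -/
theorem finish (p : ℕ) [Fact p.Prime] (hσ : ∀ x, σ x = x ^ q) (hK : Fintype.card K = q ^ 3)
    {x : G₄} (hx : x ∈ (D43.tw σ).fix) {n : ℕ} (hn : x ^ n = 1) (hp : ¬ p ∣ n)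
    (hcov : ∀ y ∈ (D43.tw σ).fix, y ≠ 1 → Done σ x y) :
    ∃ x : twistedD4 K q, ¬ p ∣ orderOf x ∧
      ∀ g : twistedD4 K q, g ≠ 1 → ∃ u v : twistedD4 K q, g = (u * x * u⁻¹) * (v * x * v⁻¹) := by
  have e := D43.twisted_eq_fix hσ hK
  refine ⟨⟨x, e ▸ hx⟩, ?_, fun g hg => ?_⟩
  · rw [← Subgroup.orderOf_coe]; exact coprime_order hn hp
  · obtain ⟨a, ha, b, hb, h⟩ := hcov g (e ▸ g.2) fun h => hg (Subtype.ext h)
    exact ⟨⟨a, e ▸ ha⟩, ⟨b, e ▸ hb⟩, Subtype.ext h⟩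

/-- `q ≥ 4` -/
theorem cover_large (p : ℕ) [Fact p.Prime] (hp : p ∣ q) (hσ : ∀ x, σ x = x ^ q)
    (hK : Fintype.card K = q ^ 3) (h4 : 4 ≤ q) :
    ∃ x : twistedD4 K q, ¬ p ∣ orderOf x ∧
      ∀ g : twistedD4 K q, g ≠ 1 → ∃ u v : twistedD4 K q, g = (u * x * u⁻¹) * (v * x * v⁻¹) := by
  obtain ⟨c, hc, hreg⟩ := exists_regular hσ hK h4
  refine finish p hσ hK (tor_fix hc) (n := q ^ 3 - 1) ?_ ?_ fun y hy _ => done_regular hσ hK hc hreg hy
  · rw [← map_pow]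
    have h1 : c ^ (q ^ 3 - 1) = 1 := by
      classical
      funext i
      rw [Pi.pow_apply, ← hK, ← Fintype.card_units]
      exact pow_card_eq_one
    rw [h1, map_one]
  · intro h
    have h1 : 1 ≤ q ^ 3 := Nat.one_le_pow _ _ (by omega)
    have h2 : p ∣ q ^ 3 := hp.trans (dvd_pow_self q (by norm_num))
    have := Nat.dvd_sub h2 h
    rw [Nat.sub_sub_self h1] at this
    exact (Fact.out : p.Prime).one_lt.ne' (Nat.dvd_one.1 this)

end CfsgLib.ThompsonD43
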