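import Cfsg.Agent.Lib.KnownB.ThompsonD43.Coord

/-!
The rank one subgroups of the two orbits of nodes and the parts of `U` they normalise.
-/

set_option autoImplicit false
set_option maxRecDepth 100000

namespace CfsgLib.ThompsonD43

open Cfsg.Lie Matrix CfsgLib.Chev CfsgLib.Chev.OrdList
open CfsgLib.Steinberg.R1Data (up dn)
open CfsgLib.Chev.D4Torus (gen_induction hom_ext map_up map_dn dtw dtw_up dtw_dn)
open scoped MatrixGroups

variable {K : Type*} [Field K]

local notation "g₄" => stdD4.good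
local notation "G₄" => GL chevD4.Idx K

/-- the homomorphism from `SL₂` of a node -/
noncomputable def phiN (i : Fin 4) : SL(2, K) →* G₄ :=
  (CfsgLib.Steinberg.exists_sl2 (F := K) g₄ (sr true i).val (sr true i).isLt).choose

theorem phiN_up (i : Fin 4) (t : K) : phiN i (up t) = xG g₄ (sr true i).val t :=
  ((CfsgLib.Steinberg.exists_sl2 (F := K) g₄ (sr true i).val (sr true i).isLt).choose_spec
    (up t) t).1 rfl

theorem neg_sr : ∀ i : Fin 4, auxD4.neg (sr true i).val = (sr false i).val ∧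
    chevD4.simple i.val = (sr true i).val := by decide +kernel

theorem phiN_dn (i : Fin 4) (t : K) : phiN i (dn t) = xG g₄ (sr false i).val t := by
  rw [← (neg_sr i).1]
  exact ((CfsgLib.Steinberg.exists_sl2 (F := K) g₄ (sr true i).val (sr true i).isLt).choose_spec
    (dn t) t).2 rfl

theorem phiN_in {S : Subgroup G₄} (i : Fin 4) (hp : ∀ t, xG g₄ (sr true i).val t ∈ S)
    (hm : ∀ t, xG g₄ (sr false i).val t ∈ S) (x : SL(2, K)) : phiN i x ∈ S :=
  gen_induction (S := S.comap (phiN i))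
    (fun t => by show phiN i (up t) ∈ S; rw [phiN_up]; exact hp t)
    (fun t => by show phiN i (dn t) ∈ S; rw [phiN_dn]; exact hm t) x

theorem commPair_tab : ∀ i k : Fin 4, i ≠ k → i ≠ 1 → k ≠ 1 → ∀ a b : Bool,
    commPair chevD4 auxD4 (sr a i).val (sr b k).val = true := by decide +kernel

theorem phiN_comm {i k : Fin 4} (h : i ≠ k) (hi : i ≠ 1) (hk : k ≠ 1) (x y : SL(2, K)) :
    Commute (phiN i x) (phiN k y) := by
  have h1 : ∀ b t, Commute (phiN i x) (xG g₄ (sr b k).val t) := by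
    intro b t
    have := phiN_in (S := Subgroup.centralizer {xG g₄ (sr b k).val t}) i
      (fun u => Subgroup.mem_centralizer_singleton_iff.2
        (commute_xG stdD4 (commPair_tab i k h hi hk true b) u t).eq)
      (fun u => Subgroup.mem_centralizer_singleton_iff.2
        (commute_xG stdD4 (commPair_tab i k h hi hk false b) u t).eq) x
    exact Subgroup.mem_centralizer_singleton_iff.1 this
  have := phiN_in (S := Subgroup.centralizer {phiN i x}) k
    (fun u => Subgroup.mem_centralizer_singleton_iff.2 (h1 true u).eq.symm)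
    (fun u => Subgroup.mem_centralizer_singleton_iff.2 (h1 false u).eq.symm) y
  exact (Subgroup.mem_centralizer_singleton_iff.1 this).symm

/-- three commuting nodes together -/
noncomputable def tri3 : SL(2, K) × SL(2, K) × SL(2, K) →* G₄ where
  toFun p := phiN 0 p.1 * phiN 2 p.2.1 * phiN 3 p.2.2
  map_one' := by simp
  map_mul' p r := by
    simp only [Prod.fst_mul, Prod.snd_mul, map_mul]
    have c20 : Commute (phiN 2 p.2.1) (phiN 0 r.1) :=
      (phiN_comm (K := K) (show (2 : Fin 4) ≠ 0 by decide) (by decide) (by decide) _ _)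
    have c30 : Commute (phiN 3 p.2.2) (phiN 0 r.1) :=
      (phiN_comm (K := K) (show (3 : Fin 4) ≠ 0 by decide) (by decide) (by decide) _ _)
    have c32 : Commute (phiN 3 p.2.2) (phiN 2 r.2.1) :=
      (phiN_comm (K := K) (show (3 : Fin 4) ≠ 2 by decide) (by decide) (by decide) _ _)
    calc phiN 0 p.1 * phiN 0 r.1 * (phiN 2 p.2.1 * phiN 2 r.2.1) * (phiN 3 p.2.2 * phiN 3 r.2.2)
        = phiN 0 p.1 * (phiN 0 r.1 * phiN 2 p.2.1) * (phiN 2 r.2.1 * phiN 3 p.2.2) * phiN 3 r.2.2 := by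
          group
      _ = phiN 0 p.1 * phiN 2 p.2.1 * (phiN 0 r.1 * phiN 3 p.2.2) * phiN 2 r.2.1 * phiN 3 r.2.2 := by
          rw [← c20.eq, ← c32.eq]; group
      _ = _ := by rw [← c30.eq]; group

theorem tri3_apply (x y z : SL(2, K)) : tri3 (x, y, z) = phiN 0 x * phiN 2 y * phiN 3 z := rfl

variable (σ : K →+* K)

/-- the homomorphism from `SL₂` of the orbit of three nodes -/
noncomputable def phiA : SL(2, K) →* G₄ :=
  tri3.comp ((MonoidHom.id _).prod ((SpecialLinearGroup.map σ).prod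
    ((SpecialLinearGroup.map σ).comp (SpecialLinearGroup.map σ))))

variable {σ}

theorem phiA_apply (x : SL(2, K)) : phiA σ x =
    phiN 0 x * phiN 2 (SpecialLinearGroup.map σ x) *
      phiN 3 (SpecialLinearGroup.map σ (SpecialLinearGroup.map σ x)) := rfl

theorem maps_phiN (i : Fin 4) (x : SL(2, K)) :
    (D43.tw σ).Maps (phiN i x) (phiN (nx i) (SpecialLinearGroup.map σ x)) := by
  have hr : ∀ b t, (D43.tw σ).Maps (xG g₄ (sr b i).val t) (xG g₄ (sr b (nx i)).val (σ t)) := by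
    intro b t
    have := (D43.tw σ).maps_xG (sr b i).isLt t
    rwa [(sr_r b i).1, D43.phi_eq (sr_r b i).2] at this
  let S : Subgroup SL(2, K) :=
    { carrier := {x | (D43.tw σ).Maps (phiN i x) (phiN (nx i) (SpecialLinearGroup.map σ x))}
      one_mem' := by simpa using (D43.tw σ).maps_one
      mul_mem' := fun {a b} ha hb => by simpa [map_mul] using Twist.Maps.mul _ ha hb
      inv_mem' := fun {a} ha => by simpa [map_inv] using Twist.Maps.inv _ ha }
  refine gen_induction (S := S) (fun t => ?_) (fun t => ?_) x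
  · show (D43.tw σ).Maps _ (phiN _ (SpecialLinearGroup.map σ (up t)))
    rw [map_up, phiN_up, phiN_up]; exact hr true t
  · show (D43.tw σ).Maps _ (phiN _ (SpecialLinearGroup.map σ (dn t)))
    rw [map_dn, phiN_dn, phiN_dn]; exact hr false t

theorem phiA_fix (hinv : ∀ x, σ (σ (σ x)) = x) (x : SL(2, K)) : phiA σ x ∈ (D43.tw σ).fix := by
  have e3 : SpecialLinearGroup.map σ (SpecialLinearGroup.map σ (SpecialLinearGroup.map σ x)) = x := by
    refine Subtype.ext ?_
    ext i j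
    exact hinv _
  have h := Twist.Maps.mul _ (Twist.Maps.mul _ (maps_phiN (σ := σ) 0 x)
    (maps_phiN 2 (SpecialLinearGroup.map σ x)))
    (maps_phiN 3 (SpecialLinearGroup.map σ (SpecialLinearGroup.map σ x)))
  rw [e3, show nx 0 = 2 from rfl, show nx 2 = 3 from rfl, show nx 3 = 0 from rfl] at h
  rw [phiA_apply, Twist.mem_fix]
  refine Eq.subst (motive := fun z => (D43.tw σ).Maps
    (phiN 0 x * phiN 2 (SpecialLinearGroup.map σ x) *
      phiN 3 (SpecialLinearGroup.map σ (SpecialLinearGroup.map σ x))) z) ?_ h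
  rw [((phiN_comm (show (0 : Fin 4) ≠ 2 by decide) (by decide) (by decide) x _).mul_right
    (phiN_comm (show (0 : Fin 4) ≠ 3 by decide) (by decide) (by decide) x _)).symm.eq, mul_assoc]

theorem phiN_one_fix {x : SL(2, K)} (hx : SpecialLinearGroup.map σ x = x) :
    phiN 1 x ∈ (D43.tw σ).fix := by
  have h := maps_phiN (σ := σ) 1 x
  rwa [hx, show nx 1 = 1 from rfl] at h

theorem tor_conj_phiN (c : Fin chevD4.rank → Kˣ) (i : Fin 4) (x : SL(2, K)) :
    tor chevD4 auxD4 c * phiN i x * (tor chevD4 auxD4 c)⁻¹ =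
      phiN i (dtw (chi chevD4 auxD4 c (sr true i).val) x) := by
  refine hom_ext (f := (MulAut.conj (tor chevD4 auxD4 c)).toMonoidHom.comp (phiN i))
    (g := (phiN i).comp (dtw (chi chevD4 auxD4 c (sr true i).val))) (fun t => ?_) (fun t => ?_) x
  · simp [phiN_up, dtw_up, tor_conj_xG g₄ c (sr true i).isLt]
  · have h := tor_conj_xG g₄ c (sr false i).isLt t
    rw [show chi chevD4 auxD4 c (sr false i).val = (chi chevD4 auxD4 c (sr true i).val)⁻¹ by
      rw [← (neg_sr i).1]; exact chi_neg g₄ c (sr true i).isLt] at h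
    simpa [phiN_dn, dtw_dn] using h

theorem phiN_dSL (i : Fin 4) (u : Kˣ) : phiN i (D4Torus.dSL u) =
    tor chevD4 auxD4 (Pi.mulSingle (D43.ix i) u : Fin chevD4.rank → Kˣ) := by
  have e : D4Torus.dSL u = up (u : K) * dn (-(u : K)⁻¹) * up (u : K) *
      (up (-1) * dn (-(-1 : K)⁻¹) * up (-1)) := by
    refine Subtype.ext ?_
    ext a b
    fin_cases a <;> fin_cases b <;> simp [D4Torus.dSL, Matrix.mul_apply, Fin.sum_univ_two]
  have hn : chevD4.neg (sr true i).val = (sr false i).val :=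
    ((g₄).neg_eq _ (sr true i).isLt).trans (neg_sr i).1
  rw [← hG_simple g₄ (D43.ix i) u, show chevD4.simple (D43.ix i).val = (sr true i).val from (neg_sr i).2,
    e, hG, nG, nG, hn]
  simp only [map_mul, phiN_up, phiN_dn]

/-! ### the complements of the orbits in `U` -/

/-- the orbits: `false` the central node, `true` the other three -/
def inOrb (o : Bool) (i : Fin 4) : Bool := if o then i != 1 else i == 1

/-- the roots of a sign outside an orbit -/
def cmp (o b : Bool) : List ℕ :=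
  match o, b with
  | true, false => [0, 1, 2, 3, 4, 6, 7, 8, 9]
  | true, true => [14, 15, 16, 17, 19, 20, 21, 22, 23]
  | false, false => [0, 1, 2, 3, 4, 5, 6, 7, 8, 10, 11]
  | false, true => [12, 13, 15, 16, 17, 18, 19, 20, 21, 22, 23]

theorem cmp_tab : ∀ o b : Bool, ∀ r : Fin 24,
    ((r.val ∈ cmp o b) → (if b then chevD4.IsPosRoot r.val else chevD4.IsNegRoot r.val)) ∧
      ((if b then chevD4.IsPosRoot r.val else chevD4.IsNegRoot r.val) →
        r.val ∈ cmp o b ∨ ∃ i, inOrb o i = true ∧ r = sr b i) ∧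
      (∀ i, inOrb o i = true → r.val ∈ cmp o b → r ≠ sr b i) := by
  intro o b
  cases o <;> cases b <;> decide +kernel

theorem cmp_lt : ∀ o b : Bool, ∀ r ∈ cmp o b, r < 24 := by decide +kernel

theorem norm_tab : ∀ o b : Bool, ∀ i : Fin 4, inOrb o i = true → ∀ c : Bool,
    (cmp o b).all (fun r => pairChk chevD4 auxD4 (sr c i).val r (cmp o b)) = true := by
  intro o b
  cases o <;> cases b <;> decide +kernel

/-- the complement of an orbit -/
noncomputable def Cmp (o b : Bool) : Subgroup G₄ := UL K g₄ (cmp o b)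

theorem Cmp_le (o b : Bool) : (Cmp o b : Subgroup G₄) ≤ Uni b := by
  rw [Uni_eq]
  refine (Subgroup.closure_le _).2 ?_
  rintro _ ⟨r, t, hr, rfl⟩
  exact xG_mem_UP g₄ ((cmp_tab o b ⟨r, cmp_lt o b r hr⟩).1 hr) t

theorem cf_Cmp {o : Bool} {i : Fin 4} (hi : inOrb o i = true) {b : Bool} {v : G₄}
    (hv : v ∈ Cmp o b) : cf b i v = 0 := by
  refine (Subgroup.closure_induction (p := fun x _ => x ∈ Uni b ∧ cf b i x = 0) ?_
    ⟨one_mem _, cf_one b i⟩ ?_ ?_ hv).2
  · rintro _ ⟨r, t, hr, rfl⟩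
    refine ⟨Cmp_le o b (xG_mem_UL g₄ hr t), ?_⟩
    rw [cf_xG b i (cmp_lt o b r hr), if_neg]
    intro e
    exact (cmp_tab o b ⟨r, cmp_lt o b r hr⟩).2.2 i hi hr (Fin.ext e)
  · rintro x y _ _ ⟨hx, px⟩ ⟨hy, py⟩
    exact ⟨mul_mem hx hy, by rw [cf_mul b i hx hy, px, py, add_zero]⟩
  · rintro x _ ⟨hx, px⟩
    exact ⟨inv_mem hx, by rw [cf_inv b i hx, px, neg_zero]⟩

theorem phiN_norm {o : Bool} {i : Fin 4} (hi : inOrb o i = true) (b : Bool) (x : SL(2, K)) :
    phiN i x ∈ Subgroup.normalizer ((Cmp o b : Subgroup G₄) : Set G₄) := by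
  have key : ∀ c t, ∀ z ∈ (Cmp o b : Subgroup G₄),
      xG g₄ (sr c i).val t * z * (xG g₄ (sr c i).val t)⁻¹ ∈ Cmp o b := by
    intro c t z hz
    refine conj_UL (fun r hr u => ?_) hz
    obtain ⟨w, hw, e⟩ := pair_conj stdD4 (List.all_eq_true.1 (norm_tab o b i hi c) r hr) t u
    rw [e]
    exact mul_mem (xG_mem_UL g₄ hr u) hw
  have hmem : ∀ c t, xG g₄ (sr c i).val t ∈ Subgroup.normalizer ((Cmp o b : Subgroup G₄) : Set G₄) := by
    intro c t z
    refine ⟨key c t z, fun hz => ?_⟩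
    have h := key c (-t) _ hz
    rw [← xG_inv, inv_inv] at h
    simpa [mul_assoc] using h
  exact phiN_in i (hmem true) (hmem false) x

theorem tri3_norm (b : Bool) (p : SL(2, K) × SL(2, K) × SL(2, K)) :
    tri3 p ∈ Subgroup.normalizer ((Cmp true b : Subgroup G₄) : Set G₄) :=
  mul_mem (mul_mem (phiN_norm (by decide) b _) (phiN_norm (by decide) b _)) (phiN_norm (by decide) b _)

theorem tri3_conj (b : Bool) (p : SL(2, K) × SL(2, K) × SL(2, K)) {v : G₄} (hv : v ∈ Cmp true b) :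
    tri3 p * v * (tri3 p)⁻¹ ∈ Cmp true b :=
  (Subgroup.mem_normalizer_iff.1 (tri3_norm b p) v).1 hv

theorem phiA_conj (b : Bool) (x : SL(2, K)) {v : G₄} (hv : v ∈ Cmp true b) :
    phiA σ x * v * (phiA σ x)⁻¹ ∈ Cmp true b := tri3_conj b _ hv

theorem phiB_conj (b : Bool) (x : SL(2, K)) {v : G₄} (hv : v ∈ Cmp false b) :
    phiN 1 x * v * (phiN 1 x)⁻¹ ∈ Cmp false b :=
  (Subgroup.mem_normalizer_iff.1 (phiN_norm (show inOrb false 1 = true by decide) b x) v).1 hv

/-- the elementary matrix of a sign -/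
def el (b : Bool) (t : K) : SL(2, K) := if b then up t else dn t

theorem el_add (b : Bool) (s t : K) : el b s * el b t = el b (s + t) := by
  refine Subtype.ext ?_
  cases b <;> ext i j <;> fin_cases i <;> fin_cases j <;>
    simp [el, Matrix.mul_apply, Fin.sum_univ_two, add_comm]

theorem el_zero (b : Bool) : el b (0 : K) = 1 := by
  refine Subtype.ext ?_
  cases b <;> ext i j <;> fin_cases i <;> fin_cases j <;> simp [el]

theorem el_inv (b : Bool) (t : K) : (el b t)⁻¹ = el b (-t) := by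
  rw [inv_eq_iff_mul_eq_one, el_add, add_neg_cancel, el_zero]

theorem phiN_el (i : Fin 4) (b : Bool) (t : K) : phiN i (el b t) = xG g₄ (sr b i).val t := by
  cases b
  · exact phiN_dn i t
  · exact phiN_up i t

theorem phiN_el_mem (i : Fin 4) (b : Bool) (t : K) : phiN i (el b t) ∈ Uni b := by
  rw [phiN_el, Uni_eq]
  refine xG_mem_UP g₄ ?_ t
  have : ∀ (b : Bool) (i : Fin 4),
      if b then chevD4.IsPosRoot (sr b i).val else chevD4.IsNegRoot (sr b i).val := by
    intro b
    cases b <;> decide +kernel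
  exact this b i

theorem cf_el (i k : Fin 4) (b : Bool) (t : K) :
    cf b k (phiN i (el b t)) = if i = k then t else 0 := by
  rw [phiN_el, cf_xG b k (sr b i).isLt]
  have : ∀ (b : Bool) (i k : Fin 4), (sr b i).val = (sr b k).val ↔ i = k := by decide +kernel
  simp only [this]

/-- splitting off the orbit of three nodes -/
theorem decompA (b : Bool) {v : G₄} (hv : v ∈ Uni b) :
    ∃ v' ∈ Cmp true b, v = v' * tri3 (el b (cf b 0 v), el b (cf b 2 v), el b (cf b 3 v)) := by
  suffices h : ∃ v' ∈ Cmp true b, ∃ s t u : K, v = v' * tri3 (el b s, el b t, el b u) by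
    obtain ⟨v', hv', s, t, u, rfl⟩ := h
    refine ⟨v', hv', ?_⟩
    have h1 := Cmp_le true b hv'
    have a0 := phiN_el_mem 0 b s
    have a2 := phiN_el_mem 2 b t
    have a3 := phiN_el_mem 3 b u
    have e : ∀ k : Fin 4, inOrb true k = true →
        cf b k (v' * tri3 (el b s, el b t, el b u)) =
          ((if 0 = k then s else 0) + (if 2 = k then t else 0)) + (if 3 = k then u else 0) := by
      intro k hk
      rw [tri3_apply, cf_mul b k h1 (mul_mem (mul_mem a0 a2) a3), cf_mul b k (mul_mem a0 a2) a3,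
        cf_mul b k a0 a2, cf_Cmp hk hv', cf_el, cf_el, cf_el, zero_add]
    rw [e 0 rfl, e 2 rfl, e 3 rfl]
    simp
  refine Uni_induction (p := fun v => ∃ v' ∈ Cmp true b, ∃ s t u : K,
    v = v' * tri3 (el b s, el b t, el b u)) ?_ ?_ ?_ ?_ hv
  · intro r t hr
    rcases (cmp_tab true b ⟨r, sgn_lt hr⟩).2.1 hr with h | ⟨i, hi, e⟩
    · exact ⟨_, xG_mem_UL g₄ h t, 0, 0, 0, by simp [el_zero, tri3_apply]⟩
    · have e' : r = (sr b i).val := congrArg Fin.val e
      refine ⟨1, one_mem _, if i = 0 then t else 0, if i = 2 then t else 0, if i = 3 then t else 0, ?_⟩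
      fin_cases i <;> simp [inOrb] at hi <;> simp [tri3_apply, el_zero, phiN_el, e']
  · exact ⟨1, one_mem _, 0, 0, 0, by simp [el_zero, tri3_apply]⟩
  · rintro x y - - ⟨x', hx', s, t, u, rfl⟩ ⟨y', hy', s', t', u', rfl⟩
    refine ⟨x' * (tri3 (el b s, el b t, el b u) * y' * (tri3 (el b s, el b t, el b u))⁻¹),
      mul_mem hx' (tri3_conj b _ hy'), s + s', t + t', u + u', ?_⟩
    rw [← el_add, ← el_add, ← el_add, ← Prod.mk_mul_mk, ← Prod.mk_mul_mk, map_mul]
    group
  · rintro x - ⟨x', hx', s, t, u, rfl⟩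
    refine ⟨(tri3 (el b s, el b t, el b u))⁻¹ * x'⁻¹ * tri3 (el b s, el b t, el b u), ?_, -s, -t, -u, ?_⟩
    · have h := tri3_conj b ((el b s, el b t, el b u)⁻¹) (inv_mem hx')
      rwa [map_inv, inv_inv] at h
    · rw [← el_inv, ← el_inv, ← el_inv, ← Prod.inv_mk, ← Prod.inv_mk, map_inv]
      group

/-- splitting off the central node -/
theorem decompB (b : Bool) {v : G₄} (hv : v ∈ Uni b) :
    ∃ v' ∈ Cmp false b, v = v' * phiN 1 (el b (cf b 1 v)) := by
  suffices h : ∃ v' ∈ Cmp false b, ∃ s : K, v = v' * phiN 1 (el b s) by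
    obtain ⟨v', hv', s, rfl⟩ := h
    refine ⟨v', hv', ?_⟩
    rw [cf_mul b 1 (Cmp_le false b hv') (phiN_el_mem 1 b s), cf_Cmp (by decide) hv', cf_el,
      zero_add, if_pos rfl]
  refine Uni_induction (p := fun v => ∃ v' ∈ Cmp false b, ∃ s : K,
    v = v' * phiN 1 (el b s)) ?_ ?_ ?_ ?_ hv
  · intro r t hr
    rcases (cmp_tab false b ⟨r, sgn_lt hr⟩).2.1 hr with h | ⟨i, hi, e⟩
    · exact ⟨_, xG_mem_UL g₄ h t, 0, by simp [el_zero]⟩
    · have e' : r = (sr b i).val := congrArg Fin.val e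
      refine ⟨1, one_mem _, t, ?_⟩
      fin_cases i <;> simp [inOrb] at hi
      simp [phiN_el, e']
  · exact ⟨1, one_mem _, 0, by simp [el_zero]⟩
  · rintro x y - - ⟨x', hx', s, rfl⟩ ⟨y', hy', s', rfl⟩
    refine ⟨x' * (phiN 1 (el b s) * y' * (phiN 1 (el b s))⁻¹),
      mul_mem hx' (phiB_conj b _ hy'), s + s', ?_⟩
    rw [← el_add, map_mul]
    group
  · rintro x - ⟨x', hx', s, rfl⟩
    refine ⟨(phiN 1 (el b s))⁻¹ * x'⁻¹ * phiN 1 (el b s), ?_, -s, ?_⟩
    · have h := phiB_conj b ((el b s)⁻¹) (inv_mem hx')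
      rwa [map_inv, inv_inv] at h
    · rw [← el_inv, map_inv]
      group

theorem map_el (f : K →+* K) (b : Bool) (t : K) :
    SpecialLinearGroup.map f (el b t) = el b (f t) := by
  cases b
  · exact map_dn f t
  · exact map_up f t

/-- the fixed part of `U` of a sign -/
noncomputable def UF (σ : K →+* K) (b : Bool) : Subgroup G₄ := Uni b ⊓ (D43.tw σ).fix

theorem decompA_fix (hinv : ∀ x, σ (σ (σ x)) = x) (b : Bool) {v : G₄} (hv : v ∈ UF σ b) :
    ∃ v' ∈ Cmp true b ⊓ (D43.tw σ).fix, v = v' * phiA σ (el b (cf b 0 v)) := by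
  obtain ⟨v', hv', e⟩ := decompA b hv.1
  have h2 := cf_fix b hv.1 hv.2 0
  have h3 := cf_fix b hv.1 hv.2 2
  rw [show nx 0 = 2 from rfl] at h2
  rw [show nx 2 = 3 from rfl, h2] at h3
  have eA : phiA σ (el b (cf b 0 v)) = tri3 (el b (cf b 0 v), el b (cf b 2 v), el b (cf b 3 v)) := by
    rw [phiA_apply, map_el, map_el, tri3_apply, ← h2, h3, ← h2]
  rw [← eA] at e
  refine ⟨v', ⟨hv', ?_⟩, e⟩
  have hA : phiA σ (el b (cf b 0 v)) ∈ (D43.tw σ).fix := phiA_fix hinv _
  have := mul_mem hv.2 (Subgroup.inv_mem _ hA)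
  rwa [show v * (phiA σ (el b (cf b 0 v)))⁻¹ = v' from mul_inv_eq_of_eq_mul e] at this

theorem decompB_fix (b : Bool) {v : G₄} (hv : v ∈ UF σ b) :
    σ (cf b 1 v) = cf b 1 v ∧
      ∃ v' ∈ Cmp false b ⊓ (D43.tw σ).fix, v = v' * phiN 1 (el b (cf b 1 v)) := by
  obtain ⟨v', hv', e⟩ := decompB b hv.1
  have h := cf_fix b hv.1 hv.2 1
  rw [show nx 1 = 1 from rfl] at h
  refine ⟨h.symm, v', ⟨hv', ?_⟩, e⟩
  have hB : phiN 1 (el b (cf b 1 v)) ∈ (D43.tw σ).fix := phiN_one_fix (by rw [map_el, ← h])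
  have := mul_mem hv.2 (Subgroup.inv_mem _ hB)
  rwa [show v * (phiN 1 (el b (cf b 1 v)))⁻¹ = v' from mul_inv_eq_of_eq_mul e] at this

theorem phiA_el_UF (hinv : ∀ x, σ (σ (σ x)) = x) (b : Bool) (t : K) : phiA σ (el b t) ∈ UF σ b := by
  refine ⟨?_, phiA_fix hinv _⟩
  rw [phiA_apply, map_el, map_el]
  exact mul_mem (mul_mem (phiN_el_mem 0 b _) (phiN_el_mem 2 b _)) (phiN_el_mem 3 b _)

theorem phiB_el_UF (b : Bool) {t : K} (ht : σ t = t) : phiN 1 (el b t) ∈ UF σ b :=
  ⟨phiN_el_mem 1 b t, phiN_one_fix (by rw [map_el, ht])⟩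

end CfsgLib.ThompsonD43
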