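import Cfsg.Agent.Lib.KnownB.ThompsonD43.Large

/-!
`q = 3`: an element of order `8` in the Levi subgroup of the orbit of three nodes, acting without
fixed points on both radicals.
-/

set_option autoImplicit false
set_option maxRecDepth 100000

namespace CfsgLib.ThompsonD43

open Cfsg.Lie Matrix CfsgLib.Chev CfsgLib.Thompson
open CfsgLib.Steinberg.R1Data (up dn)
open CfsgLib.Chev.D4Torus (map_up map_dn dtw dtw_up dtw_dn dtw_val dmat dSL)
open CfsgLib.Chev.D43 (ix)
open scoped MatrixGroups Polynomial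

variable {K : Type*} [Field K] {σ : K →+* K}

local notation "g₄" => stdD4.good
local notation "G₄" => GL chevD4.Idx K

/-! ### fixed points of torus elements -/

/-- what commutes with a torus element only lives on the roots where it is `1` -/
theorem fixed_pos (c : Fin chevD4.rank → Kˣ) {u : G₄} (hu : u ∈ Uni true)
    (h : Commute (tor chevD4 auxD4 c) u) :
    ∃ T, u = pw g₄ chevD4.posRoots T ∧
      ∀ r ∈ chevD4.posRoots, chi chevD4 auxD4 c r ≠ 1 → T r = 0 := by
  rw [Uni_true, ← UL_posRoots g₄] at hu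
  obtain ⟨T, rfl⟩ := exists_pw stdD4 upList_posRoots hu
  have hn : ∀ r ∈ chevD4.posRoots, r < chevD4.nroots := fun r hr => (posRoots_mem.1 hr).1
  have h' : tor chevD4 auxD4 c * pw g₄ chevD4.posRoots T * (tor chevD4 auxD4 c)⁻¹ =
      pw g₄ chevD4.posRoots T := by rw [h.eq, mul_inv_cancel_right]
  rw [tor_conj_pw g₄ c T hn] at h'
  refine ⟨T, rfl, fun r hr hc => ?_⟩
  by_contra h0
  exact hc (Units.ext (mul_right_cancel₀ h0
    ((pw_inj stdD4 upList_posRoots h' r hr).trans (one_mul _).symm)))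

theorem cf_pw (i : Fin 4) (T : ℕ → K) : ∀ L : List ℕ, L.Nodup → (∀ r ∈ L, chevD4.IsPosRoot r) →
    pw g₄ L T ∈ Uni true ∧
      cf true i (pw g₄ L T) = if (sr true i).val ∈ L then T (sr true i).val else 0
  | [], _, _ => ⟨one_mem _, by simp [pw, cf_one]⟩
  | x :: L, hn, hp => by
    obtain ⟨h1, h2⟩ := List.nodup_cons.1 hn
    obtain ⟨hm, hc⟩ := cf_pw i T L h2 fun r hr => hp r (List.mem_cons_of_mem _ hr)
    have hx : xG g₄ x (T x) ∈ Uni true := by
      rw [Uni_eq]
      exact xG_mem_UP g₄ (show (if true then chevD4.IsPosRoot x else chevD4.IsNegRoot x) from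
        hp x List.mem_cons_self) _
    simp only [pw] at hm hc
    simp only [pw, List.map_cons, List.prod_cons]
    refine ⟨mul_mem hx hm, ?_⟩
    rw [cf_mul true i hx hm, cf_xG true i (hp x List.mem_cons_self).1, hc]
    by_cases e : x = (sr true i).val
    · subst e; simp [h1]
    · simp [e, Ne.symm e]

theorem cmp_neg : ∀ r ∈ cmp true false, auxD4.neg r ∈ cmp true true := by decide +kernel

theorem wz_Cmp {u : G₄} (hu : u ∈ Cmp true false) : wz σ * u * (wz σ)⁻¹ ∈ Cmp true true := by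
  obtain ⟨s, hs, hn⟩ := wz_acts (σ := σ)
  refine OrdList.conj_UL (fun r hr t => ?_) hu
  obtain ⟨κ, -, hκ⟩ := hs.conj r (cmp_lt true false r hr)
  rw [hκ, hn r (cmp_lt true false r hr)]
  exact xG_mem_UL g₄ (cmp_neg r hr) _

theorem phiA_comm_top (x : SL(2, K)) (z : K) : Commute (phiA σ x) (xG g₄ 23 z) := by
  have htab : ∀ i : Fin 4, i ≠ 1 → ∀ b : Bool,
      commPair chevD4 auxD4 (sr b i).val 23 = true := by decide +kernel
  have h : ∀ i : Fin 4, i ≠ 1 → ∀ y : SL(2, K), Commute (phiN i y) (xG g₄ 23 z) := by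
    intro i hi y
    have := phiN_in (S := Subgroup.centralizer {xG g₄ 23 z}) i
      (fun u => Subgroup.mem_centralizer_singleton_iff.2 (commute_xG stdD4 (htab i hi true) u z).eq)
      (fun u => Subgroup.mem_centralizer_singleton_iff.2 (commute_xG stdD4 (htab i hi false) u z).eq) y
    exact Subgroup.mem_centralizer_singleton_iff.1 this
  rw [phiA_apply]
  exact ((h 0 (by decide) _).mul_left (h 2 (by decide) _)).mul_left (h 3 (by decide) _)

theorem parity_tab : ∀ r : Fin 24, chevD4.IsPosRoot r.val →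
    (auxD4.cart 0 r.val + auxD4.cart 2 r.val + auxD4.cart 3 r.val) % 2 = 1 ∨ r.val = 23 ∨
      r = sr true 0 ∨ r = sr true 2 ∨ r = sr true 3 := by decide +kernel

theorem top_tab : chevD4.IsPosRoot 23 ∧ auxD4.cart 0 23 = 0 ∧ auxD4.cart 1 23 = 1 ∧
    auxD4.cart 2 23 = 0 ∧ auxD4.cart 3 23 = 0 := by decide +kernel

theorem chi_neg_one (r : ℕ) : chi chevD4 auxD4 (cv σ (-1 : Kˣ) 1) r =
    (-1 : Kˣ) ^ (auxD4.cart 0 r + auxD4.cart 2 r + auxD4.cart 3 r) := by
  show ∏ i : Fin 4, cv σ (-1 : Kˣ) 1 (ix i) ^ auxD4.cart i.val r = _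
  rw [Fin.prod_univ_four]
  show (-1 : Kˣ) ^ auxD4.cart 0 r * (1 : Kˣ) ^ auxD4.cart 1 r *
    Units.map σ.toMonoidHom (-1 : Kˣ) ^ auxD4.cart 2 r *
    Units.map σ.toMonoidHom (Units.map σ.toMonoidHom (-1 : Kˣ)) ^ auxD4.cart 3 r = _
  have h : Units.map σ.toMonoidHom (-1 : Kˣ) = -1 := Units.ext (by simp)
  rw [h, h, _root_.one_zpow, mul_one, ← _root_.zpow_add, ← _root_.zpow_add]

theorem chi_top_t0 : chi chevD4 auxD4 (cv σ 1 (-1 : Kˣ)) 23 = -1 := by
  show ∏ i : Fin 4, cv σ 1 (-1 : Kˣ) (ix i) ^ auxD4.cart i.val 23 = _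
  rw [Fin.prod_univ_four]
  simp [top_tab.2.1, top_tab.2.2.1, top_tab.2.2.2.1, top_tab.2.2.2.2, cv, ix]

/-- the torus part of the chosen element -/
noncomputable def t0 (σ : K →+* K) : G₄ := tor chevD4 auxD4 (cv σ 1 (-1 : Kˣ))

/-- conjugation by `diag(-1, 1)` -/
noncomputable abbrev dm : SL(2, K) →* SL(2, K) := dtw (-1 : Kˣ)

theorem dm_val (x : SL(2, K)) : (dm x).1 = !![x.1 0 0, -x.1 0 1; -x.1 1 0, x.1 1 1] := by
  ext i j
  fin_cases i <;> fin_cases j <;> simp [dtw_val, dmat]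

variable (hinv : ∀ x, σ (σ (σ x)) = x)
include hinv

theorem t0_thetaFix : cv σ 1 (-1 : Kˣ) ∈ (D43.tw σ).thetaFix := cv_mem hinv 1 (by simp)

theorem t0_conj (x : SL(2, K)) : t0 σ * phiA σ x * (t0 σ)⁻¹ = phiA σ (dm x) := by
  refine ((orbA hinv).tor_conj _ (t0_thetaFix hinv) x).trans ?_
  show phiA σ (dtw (chi chevD4 auxD4 (cv σ 1 (-1 : Kˣ)) (sr true 0).val) x) = _
  rw [(chi_sr _).1]
  congr 3
  simp [cv, ix]

theorem t0_sq : t0 σ * t0 σ = (1 : G₄) := by
  rw [t0, ← map_mul, cv_mul, mul_one, neg_mul_neg, one_mul, cv_one, map_one]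

theorem t0_phiA (x : SL(2, K)) : t0 σ * phiA σ x * t0 σ = phiA σ (dm x) := by
  rw [← t0_conj hinv, eq_mul_inv_iff_mul_eq, mul_assoc, t0_sq hinv, mul_one]

omit hinv in
theorem sq_neg_one {h : SL(2, K)} (ht : h.1 0 0 + h.1 1 1 = 0) : h * h = dSL (-1 : Kˣ) := by
  have hd := h.2
  rw [Matrix.det_fin_two] at hd
  refine Subtype.ext ?_
  ext i j
  fin_cases i <;> fin_cases j <;> simp [dSL_val, Matrix.mul_apply, Fin.sum_univ_two]
  · linear_combination h.1 0 0 * ht - hd
  · linear_combination h.1 0 1 * ht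
  · linear_combination h.1 1 0 * ht
  · linear_combination h.1 1 1 * ht - hd

/-- the fourth power of an admissible element -/
theorem pow_four (h3 : (3 : K) = 0) {g : SL(2, K)} (hg : (g.1 1 1 - g.1 0 0) ^ 2 = 1) :
    (t0 σ * phiA σ g) ^ 4 = tor chevD4 auxD4 (cv σ (-1 : Kˣ) 1) := by
  have hd := g.2
  rw [Matrix.det_fin_two] at hd
  have e : (t0 σ * phiA σ g) ^ 2 = phiA σ (dm g * g) := by
    rw [sq, map_mul, ← t0_phiA hinv]; simp only [mul_assoc]
  rw [show (4 : ℕ) = 2 * 2 from rfl, pow_mul, e, sq, ← map_mul, sq_neg_one]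
  · exact (orbA hinv).dsl (-1)
  · simp [dtw_val, dmat, Matrix.mul_apply, Fin.sum_univ_two]
    linear_combination hg + 2 * hd + h3

/-- fixed-point-freeness on both radicals -/
theorem fpf_three (h3 : (3 : K) = 0) {g : SL(2, K)} (hg : (g.1 1 1 - g.1 0 0) ^ 2 = 1) (b : Bool) :
    Fpf (Cmp true b ⊓ (D43.tw σ).fix) (t0 σ * phiA σ g) := by
  have hneg : (-1 : Kˣ) ≠ 1 := by
    intro e
    have e' : (-1 : K) = 1 := by simpa using congrArg Units.val e
    exact one_ne_zero (show (1 : K) = 0 by linear_combination h3 + e')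
  have hfix : t0 σ * phiA σ g ∈ (D43.tw σ).fix :=
    Subgroup.mul_mem _ (tor_fix (t0_thetaFix hinv)) (phiA_fix hinv g)
  have hnorm : ∀ r ∈ Cmp true b, t0 σ * phiA σ g * r * (t0 σ * phiA σ g)⁻¹ ∈ Cmp true b := by
    intro r hr
    have h1 : t0 σ * (phiA σ g * r * (phiA σ g)⁻¹) * (t0 σ)⁻¹ ∈ Cmp true b := by
      refine OrdList.conj_UL (fun s hs u => ?_) (phiA_conj b g hr)
      rw [t0, tor_conj_xG g₄ _ (cmp_lt true b s hs)]
      exact xG_mem_UL g₄ hs _
    refine Eq.subst (motive := fun z => z ∈ Cmp true b) ?_ h1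
    group
  -- the positive side
  have key : ∀ X : G₄, (∀ z, Commute X (xG g₄ 23 z) → Commute (t0 σ) (xG g₄ 23 z)) →
      X ^ 4 = tor chevD4 auxD4 (cv σ (-1 : Kˣ) 1) →
      ∀ u ∈ Cmp true true, X * u = u * X → u = 1 := by
    intro X hX h4 u hu e
    have hc : Commute (X ^ 4) u := (show Commute X u from e).pow_left 4
    rw [h4] at hc
    obtain ⟨T, rfl, hT⟩ := fixed_pos _ (Cmp_le true true hu) hc
    have hp : ∀ r ∈ chevD4.posRoots, chevD4.IsPosRoot r := fun r hr => posRoots_mem.1 hr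
    have h0 : ∀ r ∈ chevD4.posRoots, r ≠ 23 → T r = 0 := by
      intro r hr h23
      rcases parity_tab ⟨r, (hp r hr).1⟩ (hp r hr) with h | h | h
      · refine hT r hr ?_
        rw [chi_neg_one]
        intro e1
        rw [(Int.odd_iff.2 h).neg_one_zpow] at e1
        exact hneg e1
      · exact absurd h h23
      · have hi : ∀ i : Fin 4, inOrb true i = true → r = (sr true i).val → T r = 0 := by
          intro i hi e1
          have hc0 := cf_Cmp hi hu
          rw [(cf_pw i T _ upList_posRoots.1.nodup hp).2, ← e1, if_pos hr] at hc0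
          exact hc0
        rcases h with h | h | h <;> exact hi _ (by decide) (congrArg Fin.val h)
    have h23 : (23 : ℕ) ∈ chevD4.posRoots := posRoots_mem.2 top_tab.1
    have hu' : pw g₄ chevD4.posRoots T = xG g₄ 23 (T 23) := by
      rw [← OrdList.pw_single g₄ (T 23) _ upList_posRoots.1.nodup h23, pw, pw]
      refine congrArg List.prod (List.map_congr_left fun r hr => ?_)
      by_cases h : r = 23
      · subst h; simp
      · simp [h, h0 r hr h]
    rw [hu'] at e ⊢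
    have ht := hX _ e
    have hlt : (23 : ℕ) < chevD4.nroots := top_tab.1.1
    have h1 := tor_conj_xG g₄ (cv σ 1 (-1 : Kˣ)) hlt (T 23)
    rw [show tor chevD4 auxD4 (cv σ 1 (-1 : Kˣ)) = t0 σ from rfl, ht.eq, mul_inv_cancel_right] at h1
    have h2 := CfsgLib.KnownB.ChevField.xG_inj stdD4 hlt h1
    rw [chi_top_t0, Units.val_neg, Units.val_one] at h2
    rw [show T 23 = 0 by linear_combination (T 23) * h3 - h2, xG_zero]
  refine ⟨fun r hr => ⟨hnorm r hr.1,
    Subgroup.mul_mem _ (Subgroup.mul_mem _ hfix hr.2) (Subgroup.inv_mem _ hfix)⟩, fun r hr e => ?_⟩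
  cases b with
  | true =>
    refine key _ (fun z hz => ?_) (pow_four hinv h3 hg) r hr.1 e
    have := hz.mul_left (phiA_comm_top (σ := σ) g z).inv_left
    rwa [mul_inv_cancel_right] at this
  | false =>
    have hw : wz σ * r * (wz σ)⁻¹ = 1 := by
      obtain ⟨T, hT⟩ : ∃ T : G₄, T = wz σ * phiA σ g * (wz σ)⁻¹ := ⟨_, rfl⟩
      refine key (wz σ * (t0 σ * phiA σ g) * (wz σ)⁻¹) (fun z hz => ?_) ?_ _ (wz_Cmp hr.1) ?_
      · obtain ⟨s, hs, hn⟩ := wz_acts (σ := σ)
        have hlt : (23 : ℕ) < chevD4.nroots := top_tab.1.1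
        have hnlt : auxD4.neg 23 < chevD4.nroots := stdD4.good.neg_lt _ hlt
        obtain ⟨κ, hκ0, hκ⟩ := hs.conj _ hnlt
        have h23 : xG g₄ 23 z = wz σ * xG g₄ (auxD4.neg 23) (κ⁻¹ * z) * (wz σ)⁻¹ := by
          rw [hκ, hn _ hnlt, stdD4.good.neg_neg _ hlt, ← mul_assoc, mul_inv_cancel₀ hκ0, one_mul]
        have hcomm : Commute (wz σ * phiA σ g * (wz σ)⁻¹) (xG g₄ 23 z) := by
          have h0 : Commute (phiA σ g) (xG g₄ (auxD4.neg 23) (κ⁻¹ * z)) := by
            have htab : ∀ i : Fin 4, i ≠ 1 → ∀ b : Bool,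
                commPair chevD4 auxD4 (sr b i).val (auxD4.neg 23) = true := by decide +kernel
            have h : ∀ i : Fin 4, i ≠ 1 → ∀ y : SL(2, K),
                Commute (phiN i y) (xG g₄ (auxD4.neg 23) (κ⁻¹ * z)) := by
              intro i hi y
              have := phiN_in (S := Subgroup.centralizer {xG g₄ (auxD4.neg 23) (κ⁻¹ * z)}) i
                (fun u => Subgroup.mem_centralizer_singleton_iff.2
                  (commute_xG stdD4 (htab i hi true) u _).eq)
                (fun u => Subgroup.mem_centralizer_singleton_iff.2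
                  (commute_xG stdD4 (htab i hi false) u _).eq) y
              exact Subgroup.mem_centralizer_singleton_iff.1 this
            rw [phiA_apply]
            exact ((h 0 (by decide) _).mul_left (h 2 (by decide) _)).mul_left (h 3 (by decide) _)
          rw [h23]
          exact h0.map (MulAut.conj (wz σ)).toMonoidHom
        have h1 : wz σ * t0 σ * (wz σ)⁻¹ = t0 σ := by
          rw [t0, wz_conj_tor, inv_eq_iff_mul_eq_one]
          exact t0_sq hinv
        have := hz.mul_left hcomm.inv_left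
        rwa [show wz σ * (t0 σ * phiA σ g) * (wz σ)⁻¹ * (wz σ * phiA σ g * (wz σ)⁻¹)⁻¹ =
          wz σ * t0 σ * (wz σ)⁻¹ by group, h1] at this
      · have hp := pow_four hinv h3 hg
        rw [show (wz σ * (t0 σ * phiA σ g) * (wz σ)⁻¹) ^ 4 =
          wz σ * (t0 σ * phiA σ g) ^ 4 * (wz σ)⁻¹ from (map_pow (MulAut.conj (wz σ)) _ 4).symm, hp,
          wz_conj_tor, ← map_inv]
        congr 1
        rw [inv_eq_iff_mul_eq_one, cv_mul, neg_mul_neg, one_mul, cv_one]
      · have h := congrArg (fun y => wz σ * y * (wz σ)⁻¹) e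
        simpa [mul_assoc] using h
    exact conj_eq_one_iff.1 hw

/-! ### the two classes of admissible elements -/

/-- the normal forms -/
def nf (e : K) : SL(2, K) := ⟨!![0, -1; 1, e], by simp [Matrix.det_fin_two]⟩

omit hinv in
theorem nf_val (e : K) : (nf e).1 = !![0, -1; 1, e] := rfl

omit hinv in
theorem sum_sq [Fintype K] (hodd : Fintype.card K % 2 = 1) {e : K} (he : e ≠ 0) (c : K) :
    ∃ a b : K, a ^ 2 + e * b ^ 2 = c := by
  have hf : (Polynomial.X ^ 2 : K[X]).degree = 2 := Polynomial.degree_X_pow 2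
  have hg : (Polynomial.C e * Polynomial.X ^ 2 - Polynomial.C c : K[X]).degree = 2 := by
    rw [Polynomial.degree_sub_eq_left_of_degree_lt] <;> rw [Polynomial.degree_C_mul_X_pow 2 he]
    · rfl
    · exact lt_of_le_of_lt Polynomial.degree_C_le (by norm_num)
  obtain ⟨a, b, h⟩ := FiniteField.exists_root_sum_quadratic hf hg hodd
  refine ⟨a, b, ?_⟩
  simp at h
  linear_combination h

omit hinv in
theorem neg_one_nsq [Fintype K] (hK : Fintype.card K = 3 ^ 3) (y : K) : y ^ 2 ≠ -1 := fun e =>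
  FiniteField.isSquare_neg_one_iff.1 ⟨y, by rw [← e, sq]⟩ (by rw [hK]; norm_num)

omit hinv in
theorem exists_twist [Fintype K] (hK : Fintype.card K = 3 ^ 3) (h3 : (3 : K) = 0) {g : SL(2, K)}
    {e : K} (he : g.1 1 1 - g.1 0 0 = e) (he2 : e ^ 2 = 1) :
    ∃ s : SL(2, K), dm s * nf e * s⁻¹ = g := by
  have hd := g.2
  rw [Matrix.det_fin_two] at hd
  set a := g.1 0 0
  set b := g.1 0 1
  set c := g.1 1 0
  set d := g.1 1 1
  have hc : c ≠ 0 := by
    intro h
    rw [h] at hd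
    refine neg_one_nsq hK (a + d) ?_
    rw [← he] at he2
    linear_combination he2 + 4 * hd + 2 * h3
  obtain ⟨u, y, huy⟩ := sum_sq (by rw [hK]; norm_num) (one_ne_zero : (1 : K) ≠ 0) c
  obtain ⟨x, hx⟩ : ∃ x, c * x = u + (a + d) * y := ⟨(u + (a + d) * y) / c, by field_simp⟩
  have hdet : (!![x, -a * x - b * y; y, c * x + d * y] : Matrix (Fin 2) (Fin 2) K).det = 1 := by
    rw [Matrix.det_fin_two_of]
    refine mul_left_cancel₀ hc ?_
    rw [← he] at he2
    linear_combination (c * x + u + 2 * (a + d) * y) * hx + huy +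
      ((a + d) * u * y + y ^ 2 * ((a + d) ^ 2 - a * d - 1)) * h3 - y ^ 2 * hd - y ^ 2 * he2
  obtain ⟨s, hs⟩ : ∃ s : SL(2, K), s.1 = !![x, -a * x - b * y; y, c * x + d * y] := ⟨⟨_, hdet⟩, rfl⟩
  refine ⟨s, ?_⟩
  rw [mul_inv_eq_iff_eq_mul]
  refine Subtype.ext ?_
  ext i j
  fin_cases i <;> fin_cases j <;>
    simp [dm_val, hs, nf_val, Matrix.mul_apply, Fin.sum_univ_two, show g.1 0 0 = a from rfl,
      show g.1 0 1 = b from rfl, show g.1 1 0 = c from rfl, show g.1 1 1 = d from rfl]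
  all_goals first
    | ring1
    | linear_combination x * hd - (a * x + b * y) * he
    | linear_combination y * hd - (c * x + d * y) * he
    | linear_combination -x * hd - (a * x + b * y) * he
    | linear_combination -y * hd - (c * x + d * y) * he
    | linear_combination x * hd + (a * x + b * y) * he
    | linear_combination y * hd + (c * x + d * y) * he
    | linear_combination -x * hd + (a * x + b * y) * he
    | linear_combination -y * hd + (c * x + d * y) * he

theorem conj_twist [Fintype K] (hK : Fintype.card K = 3 ^ 3) (h3 : (3 : K) = 0) {g g' : SL(2, K)}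
    {e : K} (he : g.1 1 1 - g.1 0 0 = e) (he' : g'.1 1 1 - g'.1 0 0 = e) (he2 : e ^ 2 = 1) :
    ∃ z ∈ (D43.tw σ).fix, z * (t0 σ * phiA σ g) * z⁻¹ = t0 σ * phiA σ g' := by
  obtain ⟨s, hs⟩ := exists_twist hK h3 he he2
  obtain ⟨s', hs'⟩ := exists_twist hK h3 he' he2
  refine ⟨phiA σ (s' * s⁻¹), phiA_fix hinv _, ?_⟩
  rw [← hs', ← hs]
  simp only [map_mul, map_inv, ← t0_phiA hinv]
  have h2 := t0_sq hinv
  have h2' : (t0 σ)⁻¹ = t0 σ := inv_eq_of_mul_eq_one_right h2
  simp only [mul_assoc, _root_.mul_inv_rev, inv_inv, h2', inv_mul_cancel_left]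
  simp only [← mul_assoc, h2, one_mul, mul_one]
  simp [mul_assoc, h2, h2']

omit hinv in
theorem long_sgn : (ftabD43.all fun e => decide (e.cnt = 12 →
    sgnW auxD4 (foldD43.flat e.word) (sr false 0).val *
      sgnW auxD4 (foldD43.flat e.word) (sr true 0).val = 1)) = true := by decide +kernel

omit hinv in
theorem neg_sr' : ∀ (b : Bool) (i : Fin 4), auxD4.neg (sr b i).val = (sr (!b) i).val := by
  decide +kernel

theorem wz_phiA_el (b : Bool) (t : K) : wz σ * phiA σ (el b t) * (wz σ)⁻¹ = phiA σ (el (!b)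
    ((sgnW auxD4 (foldD43.flat (exists_long σ).choose.word) (sr b 0).val : K) * t)) := by
  obtain ⟨he, -, hwf⟩ := (exists_long σ).choose_spec
  have hl := (D43.tw σ).valid.flat_letters (ftabD43_ok.letters _ he)
  have hfix : wz σ * phiA σ (el b t) * (wz σ)⁻¹ ∈ (D43.tw σ).fix :=
    Subgroup.mul_mem _ (Subgroup.mul_mem _ wz_fix (phiA_fix hinv _)) (Subgroup.inv_mem _ wz_fix)
  have h : ∀ i : Fin 4, ∀ u : K, wz σ * phiN i (el b u) * (wz σ)⁻¹ = phiN i (el (!b)
      ((sgnW auxD4 (foldD43.flat (exists_long σ).choose.word) (sr b i).val : K) * u)) := by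
    intro i u
    rw [phiN_el, phiN_el, wz, nW_conj_xG g₄ hl (sr b i).isLt, hwf _ (sr b i).isLt, neg_sr']
  obtain ⟨k0, k2, hz⟩ : ∃ k2' k3', wz σ * phiA σ (el b t) * (wz σ)⁻¹ =
      phiN 0 (el (!b) ((sgnW auxD4 (foldD43.flat (exists_long σ).choose.word) (sr b 0).val : K) * t)) *
        phiN 2 (el (!b) k2') * phiN 3 (el (!b) k3') := by
    refine ⟨(sgnW auxD4 (foldD43.flat (exists_long σ).choose.word) (sr b 2).val : K) * σ t,
      (sgnW auxD4 (foldD43.flat (exists_long σ).choose.word) (sr b 3).val : K) * σ (σ t), ?_⟩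
    rw [phiA_apply, map_el, map_el, ← h 0 t, ← h 2, ← h 3]
    group
  have m0 := phiN_el_mem 0 (!b)
    ((sgnW auxD4 (foldD43.flat (exists_long σ).choose.word) (sr b 0).val : K) * t)
  have m2 := phiN_el_mem 2 (!b) k0
  have m3 := phiN_el_mem 3 (!b) k2
  have hU : wz σ * phiA σ (el b t) * (wz σ)⁻¹ ∈ Uni (!b) := by
    rw [hz]; exact mul_mem (mul_mem m0 m2) m3
  have e2 := cf_fix (!b) hU hfix 0
  have e3 := cf_fix (!b) hU hfix 2
  rw [hz, show nx 0 = 2 from rfl] at e2
  rw [hz, show nx 2 = 3 from rfl] at e3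
  simp only [cf_mul _ _ (mul_mem m0 m2) m3, cf_mul _ _ m0 m2, cf_el] at e2 e3
  simp at e2 e3
  rw [hz, phiA_apply, map_el, map_el, e3, e2]
  simp

theorem conj_plus [Fintype K] (hK : Fintype.card K = 3 ^ 3) (h3 : (3 : K) = 0) {g : SL(2, K)}
    (hg : g.1 1 1 - g.1 0 0 = 1) :
    ∃ z ∈ (D43.tw σ).fix, z * (t0 σ * phiA σ (nf (-1))) * z⁻¹ = t0 σ * phiA σ g := by
  set h : SL(2, K) := el false 1 * el true (-1) with hdef
  have hh : h.1 1 1 - h.1 0 0 = -1 := by
    simp [h, el, Matrix.mul_apply, Fin.sum_univ_two]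
  obtain ⟨z1, hz1, e1⟩ := conj_twist hinv hK h3 (g := nf (-1)) (g' := h)
    (by simp [nf_val]) hh (by ring)
  set k : ℤ := sgnW auxD4 (foldD43.flat (exists_long σ).choose.word) (sr false 0).val
  set l : ℤ := sgnW auxD4 (foldD43.flat (exists_long σ).choose.word) (sr true 0).val
  have hkl : k * l = 1 := by
    obtain ⟨he, hcnt, -⟩ := (exists_long σ).choose_spec
    have := List.all_eq_true.1 long_sgn _ he
    exact of_decide_eq_true this (by rw [hcnt, length_posRoots stdD4.good]; rfl)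
  have e2 : wz σ * (t0 σ * phiA σ h) * (wz σ)⁻¹ =
      t0 σ * phiA σ (el true ((k : K) * 1) * el false ((l : K) * -1)) := by
    rw [hdef, map_mul, map_mul,
      show wz σ * (t0 σ * (phiA σ (el false 1) * phiA σ (el true (-1)))) * (wz σ)⁻¹ =
        (wz σ * t0 σ * (wz σ)⁻¹) * ((wz σ * phiA σ (el false 1) * (wz σ)⁻¹) *
          (wz σ * phiA σ (el true (-1)) * (wz σ)⁻¹)) by group,
      wz_phiA_el hinv false, wz_phiA_el hinv true, t0, wz_conj_tor,
      show (tor chevD4 auxD4 (cv σ 1 (-1 : Kˣ)))⁻¹ = t0 σ from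
        inv_eq_of_mul_eq_one_right (t0_sq hinv)]
    rfl
  have hg0 : (el true ((k : K) * 1) * el false ((l : K) * -1) : SL(2, K)).1 1 1 -
      (el true ((k : K) * 1) * el false ((l : K) * -1) : SL(2, K)).1 0 0 = 1 := by
    have : (k : K) * l = 1 := by rw [← Int.cast_mul, hkl, Int.cast_one]
    simp [el, Matrix.mul_apply, Fin.sum_univ_two, this]
  obtain ⟨z3, hz3, e3⟩ := conj_twist hinv hK h3 hg0 hg (one_pow 2)
  refine ⟨z3 * wz σ * z1, Subgroup.mul_mem _ (Subgroup.mul_mem _ hz3 wz_fix) hz1, ?_⟩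
  rw [← e3, ← e2, ← e1]
  group

/-! ### middles -/

omit hinv in
theorem exists_split [Fintype K] (hK : Fintype.card K = 3 ^ 3) (h3 : (3 : K) = 0) (p r : K) :
    ∃ G1 G2 : SL(2, K), G1.1 1 1 - G1.1 0 0 = -1 ∧
      (G2.1 1 1 - G2.1 0 0) ^ 2 = 1 ∧ dm G1 * G2 = dn p * up r := by
  suffices h : ∃ a b c : K, a ^ 2 - a - b * c = 1 ∧
      (c * r + a * (p * r) - b * p = 0 ∨ c * r + a * (p * r) - b * p = 1) by
    obtain ⟨a, b, c, hdet, htau⟩ := h
    obtain ⟨G1, hG1⟩ : ∃ G1 : SL(2, K), G1.1 = !![a, b; c, a - 1] :=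
      ⟨⟨_, (by rw [Matrix.det_fin_two_of]; linear_combination hdet :
        (!![a, b; c, a - 1] : Matrix (Fin 2) (Fin 2) K).det = 1)⟩, rfl⟩
    refine ⟨G1, (dm G1)⁻¹ * (dn p * up r), ?_, ?_, by group⟩
    · simp [hG1]
    · simp [dm_val, hG1, Matrix.mul_apply, Fin.sum_univ_two, Matrix.adjugate_fin_two,
        Matrix.vecMul, dotProduct]
      rcases htau with h | h
      · left; linear_combination h
      · right; linear_combination h + h3
  by_cases hp : p = 0
  · subst hp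
    by_cases hr : r = 0
    · subst hr; exact ⟨0, -1, 1, by ring, Or.inl (by ring)⟩
    · exact ⟨0, -r, r⁻¹, by simp [hr], Or.inr (by simp [hr])⟩
  by_cases hr : r = 0
  · subst hr
    exact ⟨0, -p⁻¹, p, by simp [hp], Or.inr (by simp [hp])⟩
  by_cases hP : p * r = -1
  · refine ⟨-1, r, r⁻¹, ?_, Or.inl ?_⟩
    · field_simp; ring
    · field_simp; linear_combination -2 * hP + h3
  obtain ⟨P, hPdef⟩ : ∃ P, P = p * r := ⟨_, rfl⟩
  have hP0 : -(P * (P + 1)) ≠ 0 := by
    rw [neg_ne_zero, hPdef]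
    exact mul_ne_zero (mul_ne_zero hp hr) fun e => hP (by linear_combination e)
  obtain ⟨y, a, hya⟩ := sum_sq (by rw [hK]; norm_num) hP0 (1 - P)
  obtain ⟨w, hw⟩ : ∃ w, w = a * P - 1 - y := ⟨_, rfl⟩
  have hkey : w ^ 2 + (a * P - 1) * w - P * (a ^ 2 - a - 1) = 0 := by
    subst hw
    linear_combination hya + (a ^ 2 * P ^ 2 - a * P * y - 2 * a * P + y + 1 + a * P) * h3
  have hw0 : w ≠ 0 := by
    intro e
    rw [e] at hkey
    have h1 : a ^ 2 - a - 1 = 0 := by
      have h2 : P * (a ^ 2 - a - 1) = 0 := by linear_combination -hkey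
      exact (mul_eq_zero.1 h2).resolve_left (by rw [hPdef]; exact mul_ne_zero hp hr)
    exact neg_one_nsq hK (2 * a - 1) (by linear_combination 4 * h1 + 2 * h3)
  obtain ⟨c, hcr⟩ : ∃ c, c * r = w := ⟨w / r, by field_simp⟩
  have hc : c ≠ 0 := fun e => hw0 (by rw [← hcr, e, zero_mul])
  obtain ⟨b, hbc⟩ : ∃ b, b * c = a ^ 2 - a - 1 := ⟨(a ^ 2 - a - 1) / c, by field_simp⟩
  refine ⟨a, b, c, by linear_combination -hbc, Or.inr ?_⟩
  refine mul_left_cancel₀ (mul_ne_zero hc hr) ?_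
  rw [hPdef, ← hcr] at hkey
  linear_combination hkey - (p * r) * hbc

/-- `q = 3` -/
theorem cover_three [Fintype K] (p : ℕ) [Fact p.Prime] (hp : p ∣ 3) (hσ : ∀ x, σ x = x ^ 3)
    (hK : Fintype.card K = 3 ^ 3) :
    ∃ x : twistedD4 K 3, ¬ p ∣ orderOf x ∧
      ∀ g : twistedD4 K 3, g ≠ 1 → ∃ u v : twistedD4 K 3, g = (u * x * u⁻¹) * (v * x * v⁻¹) := by
  have : CharP K 3 := charP_of_card_eq_prime_pow (f := 3) hK
  have h3 : (3 : K) = 0 := by simpa using CharP.cast_eq_zero K 3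
  have hN : ((nf (-1 : K)).1 1 1 - (nf (-1 : K)).1 0 0) ^ 2 = 1 := by simp [nf_val]
  refine finish p hσ hK (x := t0 σ * phiA σ (nf (-1)))
    (Subgroup.mul_mem _ (tor_fix (t0_thetaFix hinv)) (phiA_fix hinv _)) (n := 8) ?_ ?_ fun y hy _ => ?_
  · rw [show (8 : ℕ) = 4 + 4 from rfl, pow_add, pow_four hinv h3 hN, ← map_mul, cv_mul, neg_mul_neg,
      one_mul, cv_one, map_one]
  · intro h
    rw [(Nat.prime_dvd_prime_iff_eq Fact.out Nat.prime_three).1 hp] at h
    exact absurd h (by norm_num)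
  · have : Finite G₄ := finite_GL
    obtain ⟨k, hk, v, hv, w, hw, e⟩ := exists_vw hσ hK hy
    obtain ⟨v', hv', a, -, rfl⟩ := (orbA hinv).split false v hv
    obtain ⟨w', hw', b, -, rfl⟩ := (orbA hinv).split true w hw
    obtain ⟨G1, G2, hG1, hG2, hG⟩ := exists_split hK h3 a b
    have hw2 : phiA σ (up b)⁻¹ * w' * (phiA σ (up b)⁻¹)⁻¹ ∈
        Cmp true true ⊓ (D43.tw σ).fix := (orbA hinv).conj true _ rfl _ hw'
    have hc2 : ∃ z ∈ (D43.tw σ).fix,
        z * (t0 σ * phiA σ (nf (-1))) * z⁻¹ = t0 σ * phiA σ G2 := by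
      rcases eq_or_eq_neg_of_sq_eq_sq _ _ (hG2.trans (one_pow 2).symm) with h | h
      · exact conj_plus hinv hK h3 h
      · exact conj_twist hinv hK h3 (by simp [nf_val]) h (by ring)
    refine cover_two (X := (D43.tw σ).fix) inf_le_right inf_le_right
      (fpf_three hinv h3 (g := G1) (by rw [hG1]; ring) false) (fpf_three hinv h3 hG2 true)
      (conj_twist hinv hK h3 (by simp [nf_val]) hG1 (by ring)) hc2 hv' hw2 ⟨k, hk, ?_⟩
    have hmid : t0 σ * phiA σ G1 * (t0 σ * phiA σ G2) = phiA σ (dn a) * phiA σ (up b) := by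
      rw [← map_mul (phiA σ) (dn a), ← hG, map_mul, ← t0_phiA hinv]
      simp only [mul_assoc]
    rw [hmid]
    refine e.trans ?_
    show v' * phiA σ (dn a) * (w' * phiA σ (up b)) = _
    rw [map_inv]
    group

end CfsgLib.ThompsonD43
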