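import Cfsg.Agent.Lib.KnownB.ThompsonD43.TwoLevi

/-!
The central coordinates of the conjugates of an element of a radical as trilinear expressions.
-/

set_option autoImplicit false
set_option maxRecDepth 100000

namespace CfsgLib.ThompsonD43

open Cfsg.Lie Matrix CfsgLib.Chev
open CfsgLib.Steinberg.R1Data (up dn)
open scoped MatrixGroups

variable {K : Type*} [Field K] {σ : K →+* K}

local notation "g₄" => stdD4.good
local notation "G₄" => GL chevD4.Idx K

/-- the pair of the node `0` -/
def pA : Bool × Fin 4 × Fin 4 := (true, 0, 1)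
/-- the pair of the node `2` -/
def pB : Bool × Fin 4 × Fin 4 := (true, 2, 1)
/-- the pair of the node `3` -/
def pC : Bool × Fin 4 × Fin 4 := (true, 3, 1)

theorem pA_mem : pA ∈ adjPairs := by simp [pA, adjPairs]
theorem pB_mem : pB ∈ adjPairs := by simp [pB, adjPairs]
theorem pC_mem : pC ∈ adjPairs := by simp [pC, adjPairs]

/-- conjugation by three nodes -/
noncomputable def c3 (x y z : SL(2, K)) (v : G₄) : G₄ := tri3 (x, y, z) * v * (tri3 (x, y, z))⁻¹

/-- the raising element of a sign -/
noncomputable def ev1 (b e : Bool) : SL(2, K) := if e then el (!b) 1 else 1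

/-- the coordinate after raising at some of the three nodes -/
noncomputable def Fv (b : Bool) (v : G₄) (e0 e2 e3 : Bool) : K :=
  cf b 1 (c3 (ev1 b e0) (ev1 b e2) (ev1 b e3) v)

variable [CharP K 2]

theorem c3_mem (b : Bool) (x y z : SL(2, K)) {v : G₄} (hv : v ∈ Cmp true b) :
    c3 x y z v ∈ Cmp true b := tri3_conj b _ hv

omit [CharP K 2] in
theorem c3_split (x y z : SL(2, K)) (v : G₄) :
    c3 x y z v = phiN 0 x * c3 1 y z v * (phiN 0 x)⁻¹ ∧
    c3 1 y z v = phiN 2 y * c3 1 1 z v * (phiN 2 y)⁻¹ ∧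
    c3 1 1 z v = phiN 3 z * v * (phiN 3 z)⁻¹ := by
  refine ⟨?_, ?_, ?_⟩ <;> simp [c3, tri3_apply] <;> group

/-- the general expansion -/
theorem expand (b : Bool) (p q : K) (y z : SL(2, K)) {v : G₄} (hv : v ∈ Cmp true b) :
    p * cf b 1 (c3 1 y z v) + q * cf1 pA b (c3 1 y z v) =
      let r := y.1 (rw2 b) (rw2 b); let s := y.1 (rw2 b) (rw2' b)
      let r' := z.1 (rw2 b) (rw2 b); let s' := z.1 (rw2 b) (rw2' b)
      let F := Fv b v
      p * (r * (r' * F false false false + s' * (F false false true + F false false false)) +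
          s * ((r' * F false true false + s' * (F false true true + F false true false)) +
            (r' * F false false false + s' * (F false false true + F false false false)))) +
        q * ((r * (r' * F true false false + s' * (F true false true + F true false false)) +
          s * ((r' * F true true false + s' * (F true true true + F true true false)) +
            (r' * F true false false + s' * (F true false true + F true false false)))) +
          (r * (r' * F false false false + s' * (F false false true + F false false false)) +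
          s * ((r' * F false true false + s' * (F false true true + F false true false)) +
            (r' * F false false false + s' * (F false false true + F false false false))))) := by
  have step3 : ∀ (e0 e2 : Bool), cf b 1 (c3 (ev1 b e0) (ev1 b e2) z v) =
      z.1 (rw2 b) (rw2 b) * Fv b v e0 e2 false +
        z.1 (rw2 b) (rw2' b) * (Fv b v e0 e2 true + Fv b v e0 e2 false) := by
    intro e0 e2
    have hu : tri3 (ev1 b e0, ev1 b e2, 1) * v * (tri3 (ev1 b e0, ev1 b e2, 1))⁻¹ ∈ Cmp true b :=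
      c3_mem b _ _ _ hv
    have hsplit : ∀ w : SL(2, K), c3 (ev1 b e0) (ev1 b e2) w v =
        phiN 3 w * (tri3 (ev1 b e0, ev1 b e2, (1 : SL(2, K))) * v *
          (tri3 (ev1 b e0, ev1 b e2, (1 : SL(2, K))))⁻¹) * (phiN 3 w)⁻¹ := by
      intro w
      have e : tri3 (ev1 b e0, ev1 b e2, w) =
          phiN 3 w * tri3 (ev1 b e0, ev1 b e2, (1 : SL(2, K))) := by
        have c0 := phiN_comm (K := K) (show (3 : Fin 4) ≠ 0 by decide) (by decide) (by decide) w (ev1 b e0)
        have c2 := phiN_comm (K := K) (show (3 : Fin 4) ≠ 2 by decide) (by decide) (by decide) w (ev1 b e2)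
        rw [tri3_apply, tri3_apply, map_one, mul_one, (c0.mul_right c2).eq]
      rw [c3, e]; group
    rw [hsplit, show (3 : Fin 4) = pC.2.1 from rfl, show (1 : Fin 4) = pC.2.2 from rfl,
      cf_phiN pC_mem b z hu]
    congr 2
    simp only [cf1, pC]
    rw [← hsplit]
    simp [Fv, c3, ev1]
  have step2 : ∀ e0 : Bool, cf b 1 (c3 (ev1 b e0) y z v) =
      y.1 (rw2 b) (rw2 b) * cf b 1 (c3 (ev1 b e0) (ev1 b false) z v) +
        y.1 (rw2 b) (rw2' b) * (cf b 1 (c3 (ev1 b e0) (ev1 b true) z v) +
          cf b 1 (c3 (ev1 b e0) (ev1 b false) z v)) := by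
    intro e0
    have hu : c3 (ev1 b e0) 1 z v ∈ Cmp true b := c3_mem b _ _ _ hv
    have hsplit : ∀ w : SL(2, K), c3 (ev1 b e0) w z v =
        phiN 2 w * c3 (ev1 b e0) 1 z v * (phiN 2 w)⁻¹ := by
      intro w
      have e : tri3 (ev1 b e0, w, z) = phiN 2 w * tri3 (ev1 b e0, (1 : SL(2, K)), z) := by
        have c0 := phiN_comm (K := K) (show (2 : Fin 4) ≠ 0 by decide) (by decide) (by decide) w (ev1 b e0)
        rw [tri3_apply, tri3_apply, map_one, mul_one, ← mul_assoc, c0.eq]
      simp only [c3]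
      rw [e]; group
    rw [hsplit y, show (2 : Fin 4) = pB.2.1 from rfl, show (1 : Fin 4) = pB.2.2 from rfl,
      cf_phiN pB_mem b y hu]
    congr 2
    simp only [cf1, pB]
    rw [← hsplit]
    simp [ev1]
  have e1 : cf1 pA b (c3 1 y z v) =
      cf b 1 (c3 (ev1 b true) y z v) + cf b 1 (c3 (ev1 b false) y z v) := by
    simp only [cf1, pA]
    rw [← (c3_split (el (!b) 1) y z v).1]
    simp [ev1]
  have e0 : cf b 1 (c3 1 y z v) = cf b 1 (c3 (ev1 b false) y z v) := by simp [ev1]
  rw [e0, e1, step2 true, step2 false, step3 true true, step3 true false, step3 false true,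
    step3 false false]

/-- the trilinear form -/
noncomputable def fK (σ : K →+* K) (p q r s x0 x1 x2 x3 : K) : K :=
  p * (σ r * σ (σ r)) * x0 + q * (σ r * σ (σ r)) * x1 + p * (σ s * σ (σ r)) * σ x1 +
    p * (σ r * σ (σ s)) * σ (σ x1) + p * (σ s * σ (σ s)) * x2 + q * (σ r * σ (σ s)) * σ x2 +
      q * (σ s * σ (σ r)) * σ (σ x2) + q * (σ s * σ (σ s)) * x3

/-- the first coordinate -/
noncomputable def X0 (b : Bool) (v : G₄) : K := Fv b v false false false
/-- the second coordinate -/
noncomputable def X1 (b : Bool) (v : G₄) : K :=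
  Fv b v true false false + Fv b v false false false
/-- the third coordinate -/
noncomputable def X2 (b : Bool) (v : G₄) : K :=
  Fv b v false true true + Fv b v false true false + (Fv b v false false true + Fv b v false false false)
/-- the last coordinate -/
noncomputable def X3 (b : Bool) (v : G₄) : K :=
  Fv b v true true true + Fv b v true true false + (Fv b v true false true + Fv b v true false false) +
    (Fv b v false true true + Fv b v false true false +
      (Fv b v false false true + Fv b v false false false))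

theorem Fv_rot (b : Bool) {v : G₄} (hv : v ∈ Cmp true b) (hf : v ∈ (D43.tw σ).fix)
    (e0 e2 e3 : Bool) : σ (Fv b v e0 e2 e3) = Fv b v e3 e0 e2 := by
  have he : ∀ e : Bool, SpecialLinearGroup.map σ (ev1 b e) = (ev1 b e : SL(2, K)) := by
    intro e; cases e <;> simp [ev1, map_el]
  obtain ⟨z, hz, hm, hc⟩ := maps_Uni (σ := σ) b
    (Cmp_le true b (c3_mem b (ev1 b e0) (ev1 b e2) (ev1 b e3) hv))
  have m := Twist.Maps.mul _ (Twist.Maps.mul _ (maps_phiN (σ := σ) 0 (ev1 b e0))
    (maps_phiN (σ := σ) 2 (ev1 b e2))) (maps_phiN (σ := σ) 3 (ev1 b e3))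
  rw [he, he, he, show nx 0 = 2 from rfl, show nx 2 = 3 from rfl, show nx 3 = 0 from rfl] at m
  have e : phiN 2 (ev1 b e0) * phiN 3 (ev1 b e2) * phiN 0 (ev1 b e3) =
      (tri3 (ev1 b e3, ev1 b e0, ev1 b e2) : G₄) := by
    rw [tri3_apply, mul_assoc (phiN 0 (ev1 b e3)),
      ((phiN_comm (K := K) (show (0 : Fin 4) ≠ 2 by decide) (by decide) (by decide) (ev1 b e3)
        (ev1 b e0)).mul_right (phiN_comm (show (0 : Fin 4) ≠ 3 by decide) (by decide) (by decide)
          (ev1 b e3) (ev1 b e2))).eq]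
  rw [e, ← tri3_apply] at m
  have hz' : z = c3 (ev1 b e3) (ev1 b e0) (ev1 b e2) v := Twist.Maps.fun_eq _ hm
    (Twist.Maps.mul _ (Twist.Maps.mul _ m hf) (Twist.Maps.inv _ m))
  rw [hz'] at hc
  exact (hc 1).symm

theorem X_fix (b : Bool) {v : G₄} (hv : v ∈ Cmp true b) (hf : v ∈ (D43.tw σ).fix) :
    σ (X0 b v) = X0 b v ∧ σ (X3 b v) = X3 b v := by
  simp only [X0, X3, map_add, Fv_rot b hv hf]
  exact ⟨trivial, by ring⟩

/-- the coordinates of a conjugate under the orbit of three nodes -/
theorem cf_conjA (b : Bool) {v : G₄} (hv : v ∈ Cmp true b) (hf : v ∈ (D43.tw σ).fix) (g : SL(2, K)) :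
    cf b 1 (phiA σ g * v * (phiA σ g)⁻¹) = fK σ (g.1 (rw2 b) (rw2 b)) (g.1 (rw2 b) (rw2' b))
        (g.1 (rw2 b) (rw2 b)) (g.1 (rw2 b) (rw2' b)) (X0 b v) (X1 b v) (X2 b v) (X3 b v) ∧
    cf1 pA b (phiA σ g * v * (phiA σ g)⁻¹) = fK σ (g.1 (rw2' b) (rw2 b)) (g.1 (rw2' b) (rw2' b))
        (g.1 (rw2 b) (rw2 b)) (g.1 (rw2 b) (rw2' b)) (X0 b v) (X1 b v) (X2 b v) (X3 b v) := by
  have e : phiA σ g * v * (phiA σ g)⁻¹ = phiN 0 g *
      c3 1 (SpecialLinearGroup.map σ g) (SpecialLinearGroup.map σ (SpecialLinearGroup.map σ g)) v *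
        (phiN 0 g)⁻¹ := (c3_split g _ _ v).1
  have hu : c3 1 (SpecialLinearGroup.map σ g)
      (SpecialLinearGroup.map σ (SpecialLinearGroup.map σ g)) v ∈ Cmp pA.1 b := c3_mem b _ _ _ hv
  have key : ∀ p q : K, p * cf b 1 (c3 1 (SpecialLinearGroup.map σ g)
        (SpecialLinearGroup.map σ (SpecialLinearGroup.map σ g)) v) +
      q * cf1 pA b (c3 1 (SpecialLinearGroup.map σ g)
        (SpecialLinearGroup.map σ (SpecialLinearGroup.map σ g)) v) =
      fK σ p q (g.1 (rw2 b) (rw2 b)) (g.1 (rw2 b) (rw2' b)) (X0 b v) (X1 b v) (X2 b v) (X3 b v) := by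
    intro p q
    rw [expand b p q _ _ hv]
    simp only [fK, X0, X1, X2, X3, map_add, Fv_rot b hv hf]
    rw [show (SpecialLinearGroup.map σ g).1 (rw2 b) (rw2 b) = σ (g.1 (rw2 b) (rw2 b)) from rfl,
      show (SpecialLinearGroup.map σ g).1 (rw2 b) (rw2' b) = σ (g.1 (rw2 b) (rw2' b)) from rfl,
      show (SpecialLinearGroup.map σ (SpecialLinearGroup.map σ g)).1 (rw2 b) (rw2 b) =
        σ (σ (g.1 (rw2 b) (rw2 b))) from rfl,
      show (SpecialLinearGroup.map σ (SpecialLinearGroup.map σ g)).1 (rw2 b) (rw2' b) =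
        σ (σ (g.1 (rw2 b) (rw2' b))) from rfl]
    ring
  refine ⟨?_, ?_⟩
  · rw [e]
    exact (cf_phiN pA_mem b g hu).trans (key _ _)
  · rw [e]
    have h := congrFun (pairH_conj pA_mem b g _ hu) (rw2' b)
    refine Eq.trans ?_ (key (g.1 (rw2' b) (rw2 b)) (g.1 (rw2' b) (rw2' b)))
    cases b
    · simpa [pairH, rw2, rw2', Matrix.mulVec, dotProduct, Fin.sum_univ_two, pA] using h
    · simpa [pairH, rw2, rw2', Matrix.mulVec, dotProduct, Fin.sum_univ_two, add_comm, pA] using h

theorem meet_tab : ∀ b : Bool, ((cmp true b).all fun s => decide (s ∈ cmp false b →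
    (tgt (sr (!b) 1).val s = some (sr b 0).val ↔ tgt (sr (!b) 0).val s = some (sr b 1).val))) = true := by
  intro b; cases b <;> decide +kernel

/-- the pair of the central node -/
def pM : Bool × Fin 4 × Fin 4 := (false, 1, 0)

theorem pM_mem : pM ∈ adjPairs := by simp [pM, adjPairs]

end CfsgLib.ThompsonD43
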