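import Cfsg.Agent.Lib.KnownB.ThompsonD43.TwoRep

/-!
`q = 2`: an element of order `21` in the Levi subgroup of the central node.
-/

set_option autoImplicit false
set_option maxRecDepth 100000

namespace CfsgLib.ThompsonD43

open Cfsg.Lie Matrix CfsgLib.Chev CfsgLib.Thompson
open CfsgLib.Steinberg.R1Data (up dn)
open CfsgLib.Chev.D4Torus (map_up map_dn dtw dtw_val dmat dSL)
open CfsgLib.Chev.D43 (ix)
open scoped MatrixGroups

variable {K : Type*} [Field K] {σ : K →+* K}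

local notation "g₄" => stdD4.good
local notation "G₄" => GL chevD4.Idx K

/-- the field of eight elements with its Frobenius map -/
structure F8Frob (σ : K →+* K) : Prop where
  char : CharP K 2
  sq : ∀ x, σ x = x ^ 2
  card : Nat.card K = 2 ^ 3

theorem F8Frob.hinv (h : F8Frob σ) (x : K) : σ (σ (σ x)) = x := by
  have : Finite K := Nat.finite_of_card_ne_zero (by rw [h.card]; norm_num)
  have : Fintype K := Fintype.ofFinite K
  exact D43.invol h.sq (by rw [← Nat.card_eq_fintype_card, h.card]) x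

theorem F8Frob.pow_seven (h : F8Frob σ) (u : Kˣ) : u ^ 7 = 1 := by
  have : Finite K := Nat.finite_of_card_ne_zero (by rw [h.card]; norm_num)
  have e : Nat.card Kˣ = 7 := by rw [Nat.card_units, h.card]; rfl
  rw [← e]; exact pow_card_eq_one'

theorem F8Frob.fixed (h : F8Frob σ) {t : K} (ht : σ t = t) : t = 0 ∨ t = 1 := by
  rw [h.sq] at ht
  rcases eq_or_ne t 0 with e | e
  · exact Or.inl e
  · exact Or.inr (mul_left_cancel₀ e (by linear_combination ht))

/-- the element of order three in the central rank one subgroup -/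
def gB : SL(2, K) := dn 1 * up 1

/-- the swap in the central rank one subgroup -/
def wB : SL(2, K) := up 1 * dn 1 * up 1

theorem fix_gB : SpecialLinearGroup.map σ gB = (gB : SL(2, K)) := by
  rw [gB, map_mul, map_up, map_dn, map_one]

theorem fix_wB : SpecialLinearGroup.map σ wB = (wB : SL(2, K)) := by
  rw [wB, map_mul, map_mul, map_up, map_dn, map_one]

section
variable [CharP K 2]

theorem gB_val : (gB : SL(2, K)).1 = !![1, 1; 1, 0] := by
  ext i j
  fin_cases i <;> fin_cases j <;>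
    simp [gB, Matrix.mul_apply, Fin.sum_univ_two, CharTwo.add_self_eq_zero]

theorem wB_val : (wB : SL(2, K)).1 = !![0, 1; 1, 0] := by
  ext i j
  fin_cases i <;> fin_cases j <;>
    simp [wB, Matrix.mul_apply, Fin.sum_univ_two, CharTwo.add_self_eq_zero]

theorem gB_inv : (gB : SL(2, K))⁻¹ = up 1 * dn 1 := by
  rw [inv_eq_iff_mul_eq_one]
  refine Subtype.ext ?_
  ext i j
  fin_cases i <;> fin_cases j <;>
    simp [gB, Matrix.mul_apply, Fin.sum_univ_two, CharTwo.add_self_eq_zero]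

theorem gB_sq : (gB : SL(2, K)) * gB = gB⁻¹ := by
  rw [gB_inv]
  refine Subtype.ext ?_
  ext i j
  fin_cases i <;> fin_cases j <;>
    simp [gB, Matrix.mul_apply, Fin.sum_univ_two, CharTwo.add_self_eq_zero]

theorem wB_gB : (wB : SL(2, K)) * gB * wB⁻¹ = gB⁻¹ := by
  rw [mul_inv_eq_iff_eq_mul, gB_inv]
  refine Subtype.ext ?_
  ext i j
  fin_cases i <;> fin_cases j <;>
    simp [gB, wB, Matrix.mul_apply, Fin.sum_univ_two, CharTwo.add_self_eq_zero]

end

/-- the two choices of the central part -/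
noncomputable def gPow (e : Bool) : SL(2, K) := if e then gB else gB⁻¹

theorem fix_gPow (e : Bool) : SpecialLinearGroup.map σ (gPow e) = (gPow e : SL(2, K)) := by
  cases e <;> simp [gPow, fix_gB, map_inv]

/-- the chosen element and its variants -/
noncomputable def xT (σ : K →+* K) (l : Kˣ) (e : Bool) : G₄ :=
  tor chevD4 auxD4 (cv σ l 1) * phiN 1 (gPow e)

theorem cv_one_mem (h : F8Frob σ) (l : Kˣ) : cv σ l 1 ∈ (D43.tw σ).thetaFix :=
  cv_mem h.hinv l (by simp)

theorem xT_fix (h : F8Frob σ) (l : Kˣ) (e : Bool) : xT σ l e ∈ (D43.tw σ).fix :=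
  Subgroup.mul_mem _ (tor_fix (cv_one_mem h l)) (phiN_one_fix (fix_gPow e))

theorem torB_comm (h : F8Frob σ) (l : Kˣ) (x : SL(2, K)) :
    Commute (tor chevD4 auxD4 (cv σ l 1)) (phiN 1 x) := by
  have hc : chi chevD4 auxD4 (cv σ l 1) (sr true 1).val = 1 := by
    have hN : Nm σ l = 1 := by
      refine Units.ext ?_
      have e7 : (l : K) ^ 7 = 1 := by rw [← Units.val_pow_eq_pow_val, h.pow_seven, Units.val_one]
      simp [Nm, h.sq]
      linear_combination e7
    refine (chi_sr (cv σ l 1)).2.2.2.trans ?_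
    rw [show (cv σ l 1 (ix 0))⁻¹ * (cv σ l 1 (ix 2))⁻¹ * (cv σ l 1 (ix 3))⁻¹ = (Nm σ l)⁻¹ by
      rw [Nm, _root_.mul_inv, _root_.mul_inv]; rfl, hN]
    show (1 : Kˣ) ^ 2 * 1⁻¹ = 1
    simp
  have := tor_conj_phiN (cv σ l 1) 1 x
  rw [hc, show dtw (1 : Kˣ) x = x by
    refine Subtype.ext ?_
    ext i j
    fin_cases i <;> fin_cases j <;> simp [dtw_val, dmat]] at this
  exact mul_inv_eq_iff_eq_mul.1 this

theorem gPow_seven [CharP K 2] (e : Bool) : (gPow e : SL(2, K)) ^ 7 = gPow e := by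
  have h3 : (gB : SL(2, K)) ^ 3 = 1 := by rw [pow_three, gB_sq, mul_inv_cancel]
  have h7 : (gB : SL(2, K)) ^ 7 = gB := by
    rw [show 7 = 3 * 2 + 1 from rfl, pow_succ, pow_mul, h3, one_pow, one_mul]
  cases e
  · show gB⁻¹ ^ 7 = gB⁻¹; rw [inv_pow, h7]
  · exact h7

theorem exp_tab2 : ∀ r : Fin 24, chevD4.IsPosRoot r.val →
    ¬ (7 : ℤ) ∣ 3 * (auxD4.cart 0 r.val + 2 * auxD4.cart 2 r.val + 4 * auxD4.cart 3 r.val) ∨
      r.val = 14 ∨ r.val = 22 ∨ r.val = 23 := by decide +kernel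

theorem top_list : chevD4.posRoots.filter (fun r => decide (r = 22 ∨ r = 23)) = [22, 23] ∧
    UpList chevD4 [22, 23] := by
  refine ⟨by decide +kernel, by decide, fun r hr => ?_, fun r hr q hq hrq => ?_⟩
  · simp at hr; rcases hr with rfl | rfl <;> decide +kernel
  · have hq' : q < 24 := hq.1
    simp at hr ⊢
    omega

theorem tgt_top : tgt (sr true 1).val 22 = some 23 ∧ tgt (sr true 1).val 23 = none ∧
    tgt (sr false 1).val 22 = none ∧ tgt (sr false 1).val 23 = some 22 ∧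
    22 ∈ cmp false true ∧ 23 ∈ cmp false true := by decide +kernel

/-- the action of the central node on the two top roots -/
theorem top_conj [CharP K 2] (t a z : K) :
    phiN 1 (el true t) * (xG g₄ 22 a * xG g₄ 23 z) * (phiN 1 (el true t))⁻¹ =
        xG g₄ 22 a * xG g₄ 23 (z + t * a) ∧
      phiN 1 (el false t) * (xG g₄ 22 a * xG g₄ 23 z) * (phiN 1 (el false t))⁻¹ =
        xG g₄ 22 (a + t * z) * xG g₄ 23 z := by
  obtain ⟨h1, h2, h3, h4, m22, m23⟩ := tgt_top
  have hp : (false, (1 : Fin 4), (0 : Fin 4)) ∈ adjPairs := by simp [adjPairs]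
  have hcomm : ∀ u w : K, Commute (xG g₄ 22 u) (xG g₄ 23 w) := fun u w =>
    commute_xG stdD4 (show commPair chevD4 auxD4 22 23 = true by decide +kernel) u w
  have e22 : ∀ c, ∀ u : K, phiN 1 (el c t) * xG g₄ 22 u * (phiN 1 (el c t))⁻¹ =
      xG g₄ 22 u * xG g₄ 23 (if c then t * u else 0) := by
    intro c u
    rcases conj_gen hp c (show (22 : ℕ) ∈ cmp false true from m22) t u with ⟨h, e⟩ | ⟨s', -, h, e⟩ <;>
      cases c <;> simp only [h1, h3, Option.some.injEq, reduceCtorEq] at h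
    · simpa [xG_zero] using e
    · subst h; exact e
  have e23 : ∀ c, ∀ w : K, phiN 1 (el c t) * xG g₄ 23 w * (phiN 1 (el c t))⁻¹ =
      xG g₄ 22 (if c then 0 else t * w) * xG g₄ 23 w := by
    intro c w
    rcases conj_gen hp c (show (23 : ℕ) ∈ cmp false true from m23) t w with ⟨h, e⟩ | ⟨s', -, h, e⟩ <;>
      cases c <;> simp only [h2, h4, Option.some.injEq, reduceCtorEq] at h
    · simpa [xG_zero] using e
    · subst h; exact e.trans (hcomm _ _).eq.symm
  have hsplit : ∀ (c : Bool) (u w : G₄), phiN 1 (el c t) * (u * w) * (phiN 1 (el c t))⁻¹ =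
      (phiN 1 (el c t) * u * (phiN 1 (el c t))⁻¹) * (phiN 1 (el c t) * w * (phiN 1 (el c t))⁻¹) :=
    fun c u w => by group
  constructor
  · rw [hsplit, e22, e23, if_pos rfl, if_pos rfl, xG_zero, one_mul, mul_assoc, xG_add, add_comm z]
  · rw [hsplit, e22, e23, if_neg (by simp), if_neg (by simp), xG_zero, mul_one, ← mul_assoc, xG_add]

theorem fixed_top [CharP K 2] {a z : K} (e : Bool)
    (hc : Commute (phiN 1 (gPow e)) (xG g₄ 22 a * xG g₄ 23 z)) :
    a = 0 ∧ z = 0 := by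
  have hg : Commute (phiN 1 (gB : SL(2, K))) (xG g₄ 22 a * xG g₄ 23 z) := by
    cases e
    · simpa [gPow] using hc.inv_left
    · exact hc
  have e1 : phiN 1 (gB : SL(2, K)) * (xG g₄ 22 a * xG g₄ 23 z) * (phiN 1 gB)⁻¹ =
      xG g₄ 22 z * xG g₄ 23 (z + a) := by
    rw [gB, map_mul, show (dn 1 : SL(2, K)) = el false 1 from rfl,
      show (up 1 : SL(2, K)) = el true 1 from rfl,
      show phiN 1 (el false (1 : K)) * phiN 1 (el true 1) * (xG g₄ 22 a * xG g₄ 23 z) *
        (phiN 1 (el false (1 : K)) * phiN 1 (el true 1))⁻¹ = phiN 1 (el false (1 : K)) *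
          (phiN 1 (el true 1) * (xG g₄ 22 a * xG g₄ 23 z) * (phiN 1 (el true 1))⁻¹) *
            (phiN 1 (el false (1 : K)))⁻¹ by group,
      (top_conj 1 a z).1, (top_conj 1 a (z + 1 * a)).2]
    congr 2
    · linear_combination a * (CharTwo.two_eq_zero : (2 : K) = 0)
    · ring
  rw [hg.eq, mul_inv_cancel_right] at e1
  have hT : ∀ u w : K, pw g₄ [22, 23] (fun r => if r = 22 then u else w) =
      xG g₄ 22 u * xG g₄ 23 w := fun u w => by simp [pw]
  rw [← hT a z, ← hT z (z + a)] at e1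
  have h22 := pw_inj stdD4 top_list.2 e1 22 (by simp)
  have h23 := pw_inj stdD4 top_list.2 e1 23 (by simp)
  simp at h22 h23
  exact ⟨h23, h22 ▸ h23⟩

theorem chi_pow (h : F8Frob σ) (l : Kˣ) (r : ℕ) :
    chi chevD4 auxD4 (cv σ (l ^ 3) 1) r =
      l ^ (3 * (auxD4.cart 0 r + 2 * auxD4.cart 2 r + 4 * auxD4.cart 3 r)) := by
  show ∏ i : Fin 4, cv σ (l ^ 3) 1 (ix i) ^ auxD4.cart i.val r = _
  rw [Fin.prod_univ_four]
  have hs : ∀ u : Kˣ, Units.map σ.toMonoidHom u = u ^ 2 := fun u => Units.ext (by simp [h.sq])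
  show (l ^ 3) ^ auxD4.cart 0 r * (1 : Kˣ) ^ auxD4.cart 1 r *
    Units.map σ.toMonoidHom (l ^ 3) ^ auxD4.cart 2 r *
      Units.map σ.toMonoidHom (Units.map σ.toMonoidHom (l ^ 3)) ^ auxD4.cart 3 r = _
  rw [hs, hs, _root_.one_zpow, mul_one]
  simp only [← pow_mul]
  simp only [← zpow_natCast, ← _root_.zpow_mul, ← _root_.zpow_add]
  congr 1
  push_cast
  ring

theorem cube_eq (h : F8Frob σ) [CharP K 2] (l : Kˣ) (e : Bool) :
    (xT σ l e) ^ 3 = tor chevD4 auxD4 (cv σ (l ^ 3) 1) ∧ (xT σ l e) ^ 7 = phiN 1 (gPow e) := by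
  have hc : Commute (tor chevD4 auxD4 (cv σ l 1)) (phiN 1 (gPow e)) := torB_comm h l _
  have hp : ∀ n : ℕ, (tor chevD4 auxD4 (cv σ l 1) : G₄) ^ n = tor chevD4 auxD4 (cv σ (l ^ n) 1) := by
    intro n
    induction n with
    | zero => rw [pow_zero, pow_zero, cv_one, map_one]
    | succ n ih => rw [pow_succ, ih, ← map_mul, cv_mul, mul_one, ← pow_succ]
  have h3 : (gPow e : SL(2, K)) ^ 3 = 1 := by
    have h3 : (gB : SL(2, K)) ^ 3 = 1 := by rw [pow_three, gB_sq, mul_inv_cancel]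
    cases e
    · show gB⁻¹ ^ 3 = 1; rw [inv_pow, h3, inv_one]
    · exact h3
  constructor
  · rw [xT, hc.mul_pow, hp, ← map_pow, h3, map_one, mul_one]
  · rw [xT, hc.mul_pow, hp, ← map_pow, gPow_seven, h.pow_seven, cv_one, map_one, one_mul]

theorem fpf_pos (h : F8Frob σ) [CharP K 2] {l : Kˣ} (hl : l ≠ 1) (e : Bool) {u : G₄}
    (hu : u ∈ Cmp false true) (hc : Commute (xT σ l e) u) : u = 1 := by
  have h3 := hc.pow_left 3
  have h7 := hc.pow_left 7
  rw [(cube_eq h l e).1] at h3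
  rw [(cube_eq h l e).2] at h7
  obtain ⟨T, rfl, hT⟩ := fixed_pos _ (Cmp_le false true hu) h3
  have hp : ∀ r ∈ chevD4.posRoots, chevD4.IsPosRoot r := fun r hr => posRoots_mem.1 hr
  have ho : orderOf l = 7 := orderOf_eq_prime (p := 7) (hp := ⟨by norm_num⟩) (h.pow_seven l) hl
  have h0 : ∀ r ∈ chevD4.posRoots, r ≠ 22 → r ≠ 23 → T r = 0 := by
    intro r hr n22 n23
    rcases exp_tab2 ⟨r, (hp r hr).1⟩ (hp r hr) with e7 | e14 | e22 | e23
    · refine hT r hr fun e1 => e7 ?_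
      rw [chi_pow h, ← orderOf_dvd_iff_zpow_eq_one, ho] at e1
      exact_mod_cast e1
    · have e14' : r = (sr true 1).val := e14
      have hc0 := cf_Cmp (show inOrb false 1 = true by decide) hu
      rw [(cf_pw 1 T _ upList_posRoots.1.nodup hp).2, ← e14', if_pos hr] at hc0
      exact hc0
    · exact absurd e22 n22
    · exact absurd e23 n23
  have hu' : pw g₄ chevD4.posRoots T = xG g₄ 22 (T 22) * xG g₄ 23 (T 23) := by
    have e1 := OrdList.pw_filter g₄ (fun r => decide (r = 22 ∨ r = 23)) T chevD4.posRoots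
    rw [top_list.1] at e1
    rw [show xG g₄ 22 (T 22) * xG g₄ 23 (T 23) = pw g₄ [22, 23] T by simp [pw], e1, pw, pw]
    refine congrArg List.prod (List.map_congr_left fun r hr => ?_)
    by_cases hr' : r = 22 ∨ r = 23
    · simp [hr']
    · push Not at hr'
      simp [h0 r hr hr'.1 hr'.2]
  rw [hu'] at h7 ⊢
  obtain ⟨a0, z0⟩ := fixed_top e h7
  rw [a0, z0, xG_zero, xG_zero, one_mul]

theorem wz_el_one (h : F8Frob σ) (b : Bool) :
    wz σ * phiN 1 (el b (1 : K)) * (wz σ)⁻¹ = phiN 1 (el (!b) 1) := by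
  obtain ⟨s, hs, hn⟩ := wz_acts (σ := σ)
  obtain ⟨κ, hκ0, hκ⟩ := hs.conj _ (sr b 1).isLt
  have e : wz σ * phiN 1 (el b (1 : K)) * (wz σ)⁻¹ = phiN 1 (el (!b) κ) := by
    rw [phiN_el, phiN_el, hκ, mul_one, hn _ (sr b 1).isLt, neg_sr']
  have hfix : phiN 1 (el (!b) κ) ∈ (D43.tw σ).fix := by
    rw [← e]
    exact Subgroup.mul_mem _ (Subgroup.mul_mem _ wz_fix
      (phiN_one_fix (by rw [map_el, map_one]))) (Subgroup.inv_mem _ wz_fix)
  have hf := cf_fix (!b) (phiN_el_mem 1 (!b) κ) hfix 1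
  rw [show nx 1 = 1 from rfl, cf_el, if_pos rfl] at hf
  rw [e, (h.fixed hf.symm).resolve_left hκ0]

theorem wz_xT (h : F8Frob σ) [CharP K 2] (l : Kˣ) (e : Bool) :
    wz σ * xT σ l e * (wz σ)⁻¹ = xT σ l⁻¹ (!e) := by
  have hg : wz σ * phiN 1 (gB : SL(2, K)) * (wz σ)⁻¹ = phiN 1 gB⁻¹ := by
    rw [gB_inv, gB, map_mul, map_mul,
      show wz σ * (phiN 1 (dn (1 : K)) * phiN 1 (up 1)) * (wz σ)⁻¹ =
        (wz σ * phiN 1 (el false (1 : K)) * (wz σ)⁻¹) * (wz σ * phiN 1 (el true 1) * (wz σ)⁻¹) by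
        rw [el_false, el_true]; group, wz_el_one h, wz_el_one h]
    rfl
  have hp : wz σ * phiN 1 (gPow e : SL(2, K)) * (wz σ)⁻¹ = phiN 1 (gPow (!e)) := by
    cases e
    · show wz σ * phiN 1 (gB⁻¹ : SL(2, K)) * (wz σ)⁻¹ = phiN 1 gB
      calc wz σ * phiN 1 (gB⁻¹ : SL(2, K)) * (wz σ)⁻¹
          = (wz σ * phiN 1 (gB : SL(2, K)) * (wz σ)⁻¹)⁻¹ := by rw [map_inv]; group
        _ = _ := by rw [hg, map_inv, inv_inv]
    · exact hg
  rw [xT, xT, show wz σ * (tor chevD4 auxD4 (cv σ l 1) * phiN 1 (gPow e)) * (wz σ)⁻¹ =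
    (wz σ * tor chevD4 auxD4 (cv σ l 1) * (wz σ)⁻¹) * (wz σ * phiN 1 (gPow e) * (wz σ)⁻¹) by group,
    wz_conj_tor, hp, ← map_inv]
  congr 2
  rw [inv_eq_iff_mul_eq_one, cv_mul, mul_inv_cancel, one_mul, cv_one]

theorem wB_xT (h : F8Frob σ) [CharP K 2] (l : Kˣ) (e : Bool) :
    phiN 1 wB * xT σ l e * (phiN 1 wB)⁻¹ = xT σ l (!e) := by
  have hp : (wB : SL(2, K)) * gPow e * wB⁻¹ = gPow (!e) := by
    cases e
    · show wB * gB⁻¹ * wB⁻¹ = gB
      calc (wB : SL(2, K)) * gB⁻¹ * wB⁻¹ = (wB * gB * wB⁻¹)⁻¹ := by group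
        _ = gB := by rw [wB_gB, inv_inv]
    · exact wB_gB
  rw [xT, xT, ← hp, map_mul, map_mul, map_inv, ← mul_assoc (phiN 1 wB), ← (torB_comm h l _).eq]
  group

theorem fpf_xT (h : F8Frob σ) [CharP K 2] {l : Kˣ} (hl : l ≠ 1) (e b : Bool) :
    Fpf (Cmp false b ⊓ (D43.tw σ).fix) (xT σ l e) := by
  refine ⟨fun r hr => ⟨?_, Subgroup.mul_mem _ (Subgroup.mul_mem _ (xT_fix h l e) hr.2)
    (Subgroup.inv_mem _ (xT_fix h l e))⟩, fun r hr hc => ?_⟩
  · have h1 : tor chevD4 auxD4 (cv σ l 1) * (phiN 1 (gPow e) * r * (phiN 1 (gPow e))⁻¹) *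
        (tor chevD4 auxD4 (cv σ l 1))⁻¹ ∈ Cmp false b := by
      refine OrdList.conj_UL (fun s hs u => ?_) (phiB_conj b (gPow e) hr.1)
      rw [tor_conj_xG g₄ _ (cmp_lt false b s hs)]
      exact xG_mem_UL g₄ hs _
    refine Eq.subst (motive := fun z => z ∈ Cmp false b) ?_ h1
    rw [xT]; group
  cases b with
  | true => exact fpf_pos h hl e hr.1 hc
  | false =>
    have hn : ∀ r ∈ cmp false false, auxD4.neg r ∈ cmp false true := by decide +kernel
    have hw : wz σ * r * (wz σ)⁻¹ = 1 := by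
      obtain ⟨s, hs, hns⟩ := wz_acts (σ := σ)
      refine fpf_pos h (inv_ne_one.2 hl) (!e) (OrdList.conj_UL (fun t ht u => ?_) hr.1) ?_
      · obtain ⟨κ, -, hκ⟩ := hs.conj t (cmp_lt false false t ht)
        rw [hκ, hns t (cmp_lt false false t ht)]
        exact xG_mem_UL g₄ (hn t ht) _
      · rw [← wz_xT h]
        exact (show Commute (xT σ l e) r from hc).map (MulAut.conj (wz σ)).toMonoidHom
    exact conj_eq_one_iff.1 hw

theorem conj_xT (h : F8Frob σ) [CharP K 2] (l : Kˣ) (i e : Bool) :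
    ∃ z ∈ (D43.tw σ).fix, z * xT σ l true * z⁻¹ = xT σ (if i then l else l⁻¹) e := by
  have hw := phiN_one_fix (σ := σ) (x := (wB : SL(2, K))) fix_wB
  cases i <;> cases e
  · exact ⟨wz σ, wz_fix, wz_xT h l true⟩
  · refine ⟨phiN 1 wB * wz σ, Subgroup.mul_mem _ hw wz_fix, ?_⟩
    rw [if_neg (by simp), show xT σ l⁻¹ true = phiN 1 wB * xT σ l⁻¹ false * (phiN 1 wB)⁻¹
      from (wB_xT h l⁻¹ false).symm, ← show wz σ * xT σ l true * (wz σ)⁻¹ = xT σ l⁻¹ false
      from wz_xT h l true]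
    group
  · exact ⟨phiN 1 wB, hw, wB_xT h l true⟩
  · exact ⟨1, one_mem _, by simp⟩

/-- a state with an admissible torus part and equal central coordinates is covered -/
theorem done_good (h : F8Frob σ) [CharP K 2] {lam u : Kˣ} (hlam : lam ≠ 1)
    (hu : u = 1 ∨ u = lam ^ 2 ∨ u = (lam ^ 2)⁻¹) {y x v w : G₄} (hx : x ∈ (D43.tw σ).fix)
    (hv : v ∈ UF σ false) (hw : w ∈ UF σ true) (hab : cf false 1 v = cf true 1 w)
    (e : x * y * x⁻¹ = v * tor chevD4 auxD4 (cv σ u 1) * w) : Done σ (xT σ lam true) y := by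
  have : Finite G₄ := by
    have : Finite K := Nat.finite_of_card_ne_zero (by rw [h.card]; norm_num)
    have : Fintype K := Fintype.ofFinite K
    exact finite_GL
  obtain ⟨ha, v', hv', ev⟩ := decompB_fix false hv
  obtain ⟨-, w', hw', ew⟩ := decompB_fix true hw
  rw [← hab] at ew
  set a := cf false 1 v
  have hw2 : phiN 1 (el true a)⁻¹ * w' * (phiN 1 (el true a)⁻¹)⁻¹ ∈
      Cmp false true ⊓ (D43.tw σ).fix :=
    orbB.conj true _ (by show SpecialLinearGroup.map σ _ = _; rw [map_inv, map_el, ha]) _ hw'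
  have key : ∀ (i1 i2 e1 e2 : Bool),
      (if i1 then lam else lam⁻¹) * (if i2 then lam else lam⁻¹) = u →
      (gPow e1 * gPow e2 : SL(2, K)) = el false a * el true a → Done σ (xT σ lam true) y := by
    intro i1 i2 e1 e2 hl hg
    have n1 : (if i1 then lam else lam⁻¹) ≠ 1 := by cases i1 <;> simp [hlam]
    have n2 : (if i2 then lam else lam⁻¹) ≠ 1 := by cases i2 <;> simp [hlam]
    refine cover_two (X := (D43.tw σ).fix) inf_le_right inf_le_right (fpf_xT h n1 e1 false)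
      (fpf_xT h n2 e2 true) (conj_xT h lam i1 e1) (conj_xT h lam i2 e2) hv' hw2 ⟨x, hx, ?_⟩
    have hmid : xT σ (if i1 then lam else lam⁻¹) e1 * xT σ (if i2 then lam else lam⁻¹) e2 =
        tor chevD4 auxD4 (cv σ u 1) * (phiN 1 (el false a) * phiN 1 (el true a)) := by
      rw [xT, xT, ← map_mul (phiN 1) (el false a), ← hg, map_mul, ← hl,
        show cv σ ((if i1 then lam else lam⁻¹) * (if i2 then lam else lam⁻¹)) (1 : Kˣ) =
          cv σ (if i1 then lam else lam⁻¹) 1 * cv σ (if i2 then lam else lam⁻¹) 1 by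
          rw [cv_mul, one_mul], map_mul]
      have hc := (torB_comm h (if i2 then lam else lam⁻¹) (gPow e1)).eq
      simp only [mul_assoc]
      rw [← mul_assoc (phiN 1 (gPow e1)), ← hc, mul_assoc]
    rw [hmid]
    refine e.trans ?_
    rw [ev, ew, map_inv, inv_inv,
      show v' * phiN 1 (el false a) * tor chevD4 auxD4 (cv σ u 1) =
        v' * tor chevD4 auxD4 (cv σ u 1) * phiN 1 (el false a) by
          rw [mul_assoc, ← (torB_comm h u _).eq, ← mul_assoc]]
    group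
  rcases h.fixed ha with e0 | e0
  · have hg : (gPow true * gPow false : SL(2, K)) = el false a * el true a := by
      rw [e0, el_zero, el_zero, one_mul]; exact mul_inv_cancel gB
    rcases hu with rfl | rfl | rfl
    · exact key true false _ _ (mul_inv_cancel lam) hg
    · exact key true true _ _ (sq lam).symm hg
    · exact key false false _ _ (by simp [sq]) hg
  · have hg : (gPow false * gPow false : SL(2, K)) = el false a * el true a := by
      rw [e0]
      show gB⁻¹ * gB⁻¹ = gB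
      rw [← _root_.mul_inv_rev, gB_sq, inv_inv]
    rcases hu with rfl | rfl | rfl
    · exact key true false _ _ (mul_inv_cancel lam) hg
    · exact key true true _ _ (sq lam).symm hg
    · exact key false false _ _ (by simp [sq]) hg

end CfsgLib.ThompsonD43
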