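import Mathlib

/-!
The finite computations for `q = 2`: certificates in a model of the field of eight elements on the
numbers below eight.
-/

set_option autoImplicit false
set_option maxRecDepth 100000

namespace CfsgLib.ThompsonD43.F8M

/-- the multiplication table -/
def muT : List (List ℕ) :=
  [[0, 0, 0, 0, 0, 0, 0, 0], [0, 1, 2, 3, 4, 5, 6, 7], [0, 2, 4, 6, 3, 1, 7, 5],
   [0, 3, 6, 5, 7, 4, 1, 2], [0, 4, 3, 7, 6, 2, 5, 1], [0, 5, 1, 4, 2, 7, 3, 6],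
   [0, 6, 7, 1, 5, 3, 2, 4], [0, 7, 5, 2, 1, 6, 4, 3]]

/-- multiplication -/
def mu (a b : ℕ) : ℕ := (muT.getD a []).getD b 0

/-- the square -/
def sq (a : ℕ) : ℕ := mu a a

/-- inversion -/
def inv (a : ℕ) : ℕ := [0, 1, 5, 6, 7, 2, 3, 4].getD a 0

/-- the trilinear form on a state -/
def fM (p q r s n : ℕ) : ℕ :=
  let r1 := sq r; let r2 := sq r1; let s1 := sq s; let s2 := sq s1
  let x0 := n % 2; let x1 := n / 4 % 8; let x2 := n / 32; let x3 := n / 2 % 2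
  mu (mu p (mu r1 r2)) x0 ^^^ mu (mu q (mu r1 r2)) x1 ^^^ mu (mu p (mu s1 r2)) (sq x1) ^^^
    mu (mu p (mu r1 s2)) (sq (sq x1)) ^^^ mu (mu p (mu s1 s2)) x2 ^^^
      mu (mu q (mu r1 s2)) (sq x2) ^^^ mu (mu q (mu s1 r2)) (sq (sq x2)) ^^^ mu (mu q (mu s1 s2)) x3

/-- a matrix -/
structure M2 where
  e00 : ℕ
  e01 : ℕ
  e10 : ℕ
  e11 : ℕ

/-- the product -/
def M2.mul (g h : M2) : M2 :=
  ⟨mu g.e00 h.e00 ^^^ mu g.e01 h.e10, mu g.e00 h.e01 ^^^ mu g.e01 h.e11,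
    mu g.e10 h.e00 ^^^ mu g.e11 h.e10, mu g.e10 h.e01 ^^^ mu g.e11 h.e11⟩

/-- the inverse of a matrix of determinant one -/
def M2.adj (g : M2) : M2 := ⟨g.e11, g.e01, g.e10, g.e00⟩

/-- entries in range and determinant one -/
def M2.ok (g : M2) : Bool :=
  decide (g.e00 < 8 ∧ g.e01 < 8 ∧ g.e10 < 8 ∧ g.e11 < 8 ∧ mu g.e00 g.e11 ^^^ mu g.e01 g.e10 = 1)

/-- the conjugate -/
def conjM (g k : M2) : M2 := (g.mul k).mul g.adj

/-- the negative coordinate after conjugation -/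
def aV (g : M2) (n : ℕ) : ℕ := fM g.e00 g.e01 g.e00 g.e01 n

/-- the positive coordinate after conjugation -/
def aW (g : M2) (n : ℕ) : ℕ := fM g.e11 g.e10 g.e11 g.e10 n

/-- the second negative coordinate after conjugation -/
def dV (g : M2) (n : ℕ) : ℕ := fM g.e10 g.e11 g.e00 g.e01 n

/-- the second positive coordinate after conjugation -/
def dW (g : M2) (n : ℕ) : ℕ := fM g.e01 g.e00 g.e11 g.e10 n

/-- the allowed leading entries -/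
def allowed (g k : M2) : Bool :=
  decide ((conjM g k).e00 = 1 ∨ (conjM g k).e00 = 2 ∨ (conjM g k).e00 = 5)

/-- the exclusive or along a list -/
def xsum {α : Type} (f : α → ℕ) : List α → ℕ
  | [] => 0
  | a :: l => f a ^^^ xsum f l

/-- the representatives of the classes: the identity for `8`, companion matrices otherwise -/
def rep (t : ℕ) : M2 := if t = 8 then ⟨1, 0, 0, 1⟩ else ⟨0, 1, 1, t⟩

/-- odd lists on which both coordinates sum to zero -/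
def cert : List (ℕ × List M2) :=
  [(8, [⟨5, 0, 3, 2⟩, ⟨6, 4, 6, 7⟩, ⟨6, 7, 2, 7⟩, ⟨2, 3, 6, 0⟩, ⟨6, 2, 1, 5⟩, ⟨6, 3, 3, 7⟩,
      ⟨3, 5, 0, 6⟩, ⟨0, 1, 1, 1⟩, ⟨3, 3, 3, 5⟩]),
    (0, [⟨3, 7, 3, 1⟩, ⟨2, 2, 0, 5⟩, ⟨3, 0, 7, 6⟩, ⟨0, 1, 1, 2⟩, ⟨4, 1, 3, 5⟩, ⟨1, 3, 4, 6⟩,
      ⟨3, 6, 2, 2⟩, ⟨7, 4, 4, 1⟩, ⟨1, 5, 2, 0⟩]),
    (1, [⟨2, 2, 0, 5⟩, ⟨2, 1, 7, 3⟩, ⟨2, 3, 1, 1⟩, ⟨3, 5, 5, 2⟩, ⟨7, 4, 5, 7⟩, ⟨2, 4, 6, 2⟩,
      ⟨3, 0, 3, 6⟩, ⟨0, 5, 2, 6⟩, ⟨3, 2, 5, 0⟩]),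
    (2, [⟨1, 6, 1, 7⟩, ⟨7, 0, 4, 4⟩, ⟨7, 2, 4, 3⟩, ⟨0, 6, 3, 5⟩, ⟨7, 1, 1, 0⟩, ⟨2, 2, 2, 7⟩,
      ⟨7, 3, 2, 1⟩, ⟨4, 3, 0, 7⟩, ⟨2, 1, 5, 2⟩]),
    (4, [⟨1, 4, 5, 3⟩, ⟨2, 5, 1, 2⟩, ⟨3, 5, 4, 1⟩, ⟨3, 3, 6, 0⟩, ⟨2, 0, 1, 5⟩, ⟨6, 7, 0, 3⟩,
      ⟨7, 6, 4, 6⟩, ⟨3, 1, 7, 2⟩, ⟨0, 4, 7, 7⟩]),
    (6, [⟨5, 2, 1, 6⟩, ⟨7, 0, 4, 4⟩, ⟨2, 6, 2, 3⟩, ⟨4, 2, 6, 4⟩, ⟨1, 2, 0, 1⟩, ⟨2, 5, 2, 0⟩,
      ⟨4, 4, 3, 4⟩, ⟨7, 4, 1, 2⟩, ⟨0, 4, 7, 2⟩]),
    (7, [⟨5, 7, 6, 1⟩, ⟨7, 1, 7, 5⟩, ⟨5, 4, 7, 0⟩, ⟨0, 2, 5, 3⟩, ⟨1, 6, 1, 7⟩, ⟨1, 7, 6, 5⟩,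
      ⟨4, 0, 7, 7⟩, ⟨2, 4, 2, 1⟩, ⟨1, 1, 0, 1⟩])]

theorem cert_ok : (cert.all fun p => decide (p.2.length % 2 = 1) &&
    (p.2.all fun g => g.ok && allowed g (rep p.1)) &&
    (List.range 256).all fun n =>
      decide (xsum (fun g => aV g n) p.2 = 0) && decide (xsum (fun g => aW g n) p.2 = 0)) = true := by
  decide +kernel

/-- for the two remaining traces: the elements determining the positive state, the free bit, the
reconstruction and the witnesses -/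
def badData : List (ℕ × List M2 × ℕ × List ℕ × List M2) :=
  [(3, [⟨0, 1, 1, 1⟩, ⟨0, 1, 1, 2⟩, ⟨0, 1, 1, 6⟩, ⟨1, 0, 2, 1⟩, ⟨1, 1, 0, 1⟩, ⟨1, 1, 1, 0⟩,
      ⟨1, 1, 5, 4⟩], 6, [16, 32, 250, 245, 115, 203, 128, 61],
      [⟨1, 2, 0, 1⟩, ⟨1, 0, 5, 1⟩, ⟨0, 1, 1, 1⟩]),
    (5, [⟨0, 1, 1, 0⟩, ⟨0, 1, 1, 4⟩, ⟨0, 1, 1, 7⟩, ⟨1, 0, 1, 1⟩, ⟨1, 0, 2, 1⟩, ⟨1, 0, 5, 1⟩,
      ⟨1, 1, 0, 1⟩], 7, [64, 1, 186, 91, 207, 243, 109, 128],
      [⟨1, 2, 0, 1⟩, ⟨1, 0, 5, 1⟩, ⟨0, 1, 1, 4⟩])]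

/-- rebuilding a state from bits -/
def decodeB (bits s : List ℕ) : ℕ :=
  xsum (fun j => 2 ^ j *
    xsum (fun i => if (bits.getD j 0) / 2 ^ i % 2 = 1 then s.getD i 0 else 0) (List.range 8))
    (List.range 8)

/-- the trace of the middle part after exchanging with the central node -/
def newTr (g k : M2) (xv xw : ℕ) : ℕ :=
  let kk := conjM g k
  let c := kk.e00
  let P := mu kk.e10 (inv c)
  let R := mu kk.e01 (inv c)
  let P2 := if aV g xv = 1 then P ^^^ dV g xv else dV g xv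
  let R2 := if aV g xv = 1 then dW g xw else R ^^^ dW g xw
  c ^^^ inv c ^^^ mu c (mu P2 R2)

/-- a witness either has equal coordinates or leads to one of the other classes -/
def escapes (g k : M2) (xv xw : ℕ) : Bool :=
  decide (aV g xv = aW g xw) || !decide (newTr g k xv xw = 3 ∨ newTr g k xv xw = 5)

theorem bad_ok : (badData.all fun p =>
    (p.2.1.all fun g => g.ok && allowed g (rep p.1)) &&
    (p.2.2.2.2.all fun g => g.ok && allowed g (rep p.1)) &&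
    ((List.range 256).all fun xw =>
      decide (decodeB p.2.2.2.1 (p.2.1.map (fun g => aW g xw) ++ [xw / 2 ^ p.2.2.1 % 2]) = xw)) &&
    (List.range 256).all fun xv => [0, 1].all fun e =>
      p.2.2.2.2.any fun g => escapes g (rep p.1) xv
        (decodeB p.2.2.2.1 (p.2.1.map (fun g => aV g xv ^^^ 1) ++ [e]))) = true := by
  decide +kernel

theorem rep_cases : ∀ t : ℕ, t < 8 → (∃ p ∈ cert, p.1 = t) ∨ t = 3 ∨ t = 5 := by
  intro t ht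
  interval_cases t <;> simp [cert]

theorem two_valued : ((cert.flatMap (fun p => p.2) ++
    badData.flatMap (fun p => p.2.1 ++ p.2.2.2.2)).all fun g => (List.range 256).all fun n =>
      decide (aV g n < 2) && decide (aW g n < 2)) = true := by
  decide +kernel

theorem odd_xsum {α : Type} {f h : α → ℕ} : ∀ {l : List α},
    (∀ a ∈ l, f a ^^^ h a = 1) → xsum f l ^^^ xsum h l = l.length % 2
  | [], _ => by simp [xsum]
  | a :: l, hl => by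
    have ih := odd_xsum (f := f) (h := h) fun x hx => hl x (List.mem_cons_of_mem _ hx)
    rw [xsum, xsum, show f a ^^^ xsum f l ^^^ (h a ^^^ xsum h l) =
      (f a ^^^ h a) ^^^ (xsum f l ^^^ xsum h l) by ac_rfl, hl a List.mem_cons_self, ih,
      List.length_cons]
    rcases Nat.mod_two_eq_zero_or_one l.length with e | e <;>
      simp [e, Nat.add_mod]

theorem xor_one {a b : ℕ} (ha : a < 2) (hb : b < 2) (h : a ≠ b) : a ^^^ b = 1 ∧ b = a ^^^ 1 := by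
  interval_cases a <;> interval_cases b <;> simp_all

/-- a class with a certificate has a conjugate with equal coordinates -/
theorem exists_equal {t : ℕ} {p : ℕ × List M2} (hp : p ∈ cert) (ht : p.1 = t) {xv xw : ℕ}
    (hv : xv < 256) (hw : xw < 256) :
    ∃ g : M2, g.ok = true ∧ allowed g (rep t) = true ∧ aV g xv = aW g xw := by
  subst ht
  have h := List.all_eq_true.1 cert_ok p hp
  simp only [Bool.and_eq_true, decide_eq_true_eq, List.all_eq_true, List.mem_range] at h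
  obtain ⟨⟨hodd, hg⟩, hz⟩ := h
  by_contra hc
  push Not at hc
  have h2 := List.all_eq_true.1 two_valued
  have h1 : ∀ g ∈ p.2, aV g xv ^^^ aW g xw = 1 := by
    intro g hg'
    have hmem := h2 g (List.mem_append_left _ (List.mem_flatMap.2 ⟨p, hp, hg'⟩))
    simp only [List.all_eq_true, List.mem_range, Bool.and_eq_true, decide_eq_true_eq] at hmem
    exact (xor_one (hmem xv hv).1 (hmem xw hw).2 (hc g (hg g hg').1 (hg g hg').2)).1
  have := odd_xsum h1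
  rw [(hz xv hv).1, (hz xw hw).2, hodd] at this
  simp at this

/-- in the two other classes some conjugate has equal coordinates or leaves for a good class -/
theorem exists_escape {t : ℕ} (ht : t = 3 ∨ t = 5) {xv xw : ℕ} (hv : xv < 256) (hw : xw < 256) :
    ∃ g : M2, g.ok = true ∧ allowed g (rep t) = true ∧ escapes g (rep t) xv xw = true := by
  obtain ⟨p, hp, rfl⟩ : ∃ p ∈ badData, p.1 = t := by rcases ht with rfl | rfl <;> simp [badData]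
  have h := List.all_eq_true.1 bad_ok p hp
  simp only [Bool.and_eq_true, decide_eq_true_eq, List.all_eq_true, List.any_eq_true,
    List.mem_range] at h
  obtain ⟨⟨⟨hg, hg'⟩, hdec⟩, hwit⟩ := h
  by_contra hc
  push Not at hc
  have h2 := List.all_eq_true.1 two_valued
  have hb : p.2.1.map (fun g => aW g xw) = p.2.1.map (fun g => aV g xv ^^^ 1) := by
    refine List.map_congr_left fun g hgm => ?_
    have hmem := h2 g (List.mem_append_right _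
      (List.mem_flatMap.2 ⟨p, hp, List.mem_append_left _ hgm⟩))
    simp only [List.all_eq_true, List.mem_range, Bool.and_eq_true, decide_eq_true_eq] at hmem
    refine (xor_one (hmem xv hv).1 (hmem xw hw).2 fun e => ?_).2
    exact hc g (hg g hgm).1 (hg g hgm).2 (by simp [escapes, e])
  have he : xw / 2 ^ p.2.2.1 % 2 ∈ [0, 1] := by
    rcases Nat.mod_two_eq_zero_or_one (xw / 2 ^ p.2.2.1) with e | e <;> simp [e]
  obtain ⟨g, hgm, hesc⟩ := hwit xv hv _ he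
  rw [← hb, hdec xw hw] at hesc
  exact hc g (hg' g hgm).1 (hg' g hgm).2 hesc

end CfsgLib.ThompsonD43.F8M
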