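import Cfsg.Agent.Lib.KnownB.ThompsonD43.TwoSwap
import Cfsg.Agent.Lib.KnownB.ThompsonD43.TwoModel

/-!
`q = 2`: every element is covered by two conjugates of the element of order `21`.
-/

set_option autoImplicit false
set_option maxRecDepth 100000

namespace CfsgLib.ThompsonD43

open Cfsg.Lie Matrix CfsgLib.Chev
open CfsgLib.Steinberg.R1Data (up dn)
open CfsgLib.Chev.D4Torus (dSL)
open scoped MatrixGroups

variable {K : Type*} [Field K] {σ : K →+* K}

local notation "g₄" => stdD4.good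
local notation "G₄" => GL chevD4.Idx K

/-- the element of a number below eight -/
def Em (ξ : K) (n : ℕ) : K :=
  ((n % 2 : ℕ) : K) + ((n / 2 % 2 : ℕ) : K) * ξ + ((n / 4 % 2 : ℕ) : K) * ξ ^ 2

theorem mu_lt : ∀ a < 8, ∀ b < 8, F8M.mu a b < 8 := by decide +kernel

theorem inv_tab : ∀ a < 8, a ≠ 0 → F8M.inv a < 8 ∧ F8M.mu a (F8M.inv a) = 1 := by decide +kernel

theorem xor_lt {a b : ℕ} (ha : a < 8) (hb : b < 8) : a ^^^ b < 8 :=
  Nat.xor_lt_two_pow (n := 3) ha hb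

theorem mu_lt' {a b : ℕ} (ha : a < 8) (hb : b < 8) : F8M.mu a b < 8 := mu_lt a ha b hb

theorem sq_lt {a : ℕ} (ha : a < 8) : F8M.sq a < 8 := mu_lt a ha a ha

theorem Em_zero (ξ : K) : Em ξ 0 = 0 := by simp [Em]
theorem Em_one (ξ : K) : Em ξ 1 = 1 := by simp [Em]

theorem exists_xi (h : F8Frob σ) : ∃ ξ : K, ξ ^ 3 + ξ + 1 = 0 := by
  have := h.char
  have : Finite K := Nat.finite_of_card_ne_zero (by rw [h.card]; norm_num)
  have : Fintype K := Fintype.ofFinite K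
  classical
  have hc : Fintype.card K = 8 := by rw [← Nat.card_eq_fintype_card, h.card]; norm_num
  obtain ⟨a, -, ha⟩ := Finset.exists_mem_notMem_of_card_lt_card
    (t := (Finset.univ : Finset K)) (s := ({0, 1} : Finset K))
    (lt_of_le_of_lt Finset.card_le_two (by rw [Finset.card_univ, hc]; norm_num))
  simp only [Finset.mem_insert, Finset.mem_singleton, not_or] at ha
  have h7 : a ^ 7 = 1 := by
    have := FiniteField.pow_card_sub_one_eq_one a ha.1
    rwa [hc] at this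
  have h2 : (2 : K) = 0 := CharTwo.two_eq_zero
  have e : (a - 1) * ((a ^ 3 + a + 1) * (a ^ 3 + a ^ 2 + 1)) = 0 := by
    linear_combination h7 + (a ^ 4 - a ^ 3) * h2
  rcases mul_eq_zero.1 e with e | e
  · exact absurd (sub_eq_zero.1 e) ha.2
  rcases mul_eq_zero.1 e with e | e
  · exact ⟨a, e⟩
  · refine ⟨a⁻¹, ?_⟩
    have := ha.1
    field_simp
    linear_combination e

section
variable [CharP K 2] {ξ : K} (hξ : ξ ^ 3 + ξ + 1 = 0)
include hξ

theorem Em_mu : ∀ a < 8, ∀ b < 8, Em ξ (F8M.mu a b) = Em ξ a * Em ξ b := by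
  have h2 : (2 : K) = 0 := CharTwo.two_eq_zero
  intro a ha b hb
  interval_cases a <;> interval_cases b <;> simp [Em, F8M.mu, F8M.muT] <;> grind

theorem Em_xor : ∀ a < 8, ∀ b < 8, Em ξ (a ^^^ b) = Em ξ a + Em ξ b := by
  have h2 : (2 : K) = 0 := CharTwo.two_eq_zero
  intro a ha b hb
  interval_cases a <;> interval_cases b <;> simp [Em] <;> grind

theorem Em_inv {a : ℕ} (ha : a < 8) (h0 : a ≠ 0) : Em ξ (F8M.inv a) = (Em ξ a)⁻¹ := by
  obtain ⟨h1, h2⟩ := inv_tab a ha h0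
  refine eq_inv_of_mul_eq_one_right ?_
  rw [← Em_mu hξ a ha _ h1, h2, Em_one]

theorem Em_inj {a b : ℕ} (ha : a < 8) (hb : b < 8) (h : Em ξ a = Em ξ b) : a = b := by
  by_contra hne
  have hx : a ^^^ b ≠ 0 := fun e => hne (by
    calc a = a ^^^ (a ^^^ b) := by rw [e, Nat.xor_zero]
      _ = b := by rw [← Nat.xor_assoc, Nat.xor_self, Nat.zero_xor])
  obtain ⟨h1, h2⟩ := inv_tab _ (xor_lt ha hb) hx
  have h3 := Em_mu hξ _ (xor_lt ha hb) _ h1
  rw [h2, Em_one, Em_xor hξ a ha b hb, h, CharTwo.add_self_eq_zero, zero_mul] at h3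
  exact one_ne_zero h3

theorem Em_surj (hcard : Nat.card K = 8) (z : K) : ∃ n < 8, Em ξ n = z := by
  have : Finite K := Nat.finite_of_card_ne_zero (by rw [hcard]; norm_num)
  have hinj : Function.Injective (fun n : Fin 8 => Em ξ n.val) := fun a b e =>
    Fin.ext (Em_inj hξ a.isLt b.isLt e)
  obtain ⟨n, hn⟩ := (Nat.bijective_iff_injective_and_card _).2
    ⟨hinj, by rw [Nat.card_fin, hcard]⟩ |>.2 z
  exact ⟨n.val, n.isLt, hn⟩

end

/-- the matrix of a model matrix -/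
def MK (ξ : K) (g : F8M.M2) : Matrix (Fin 2) (Fin 2) K :=
  !![Em ξ g.e00, Em ξ g.e01; Em ξ g.e10, Em ξ g.e11]

/-- entries in range -/
def InR (g : F8M.M2) : Prop := g.e00 < 8 ∧ g.e01 < 8 ∧ g.e10 < 8 ∧ g.e11 < 8

theorem inR_of_ok {g : F8M.M2} (h : g.ok = true) : InR g := by
  simp only [F8M.M2.ok, decide_eq_true_eq] at h
  exact ⟨h.1, h.2.1, h.2.2.1, h.2.2.2.1⟩

theorem inR_mul {g k : F8M.M2} (hg : InR g) (hk : InR k) : InR (g.mul k) := by
  obtain ⟨a, b, c, d⟩ := hg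
  obtain ⟨a', b', c', d'⟩ := hk
  refine ⟨?_, ?_, ?_, ?_⟩ <;> refine xor_lt (mu_lt _ ?_ _ ?_) (mu_lt _ ?_ _ ?_) <;> assumption

theorem inR_adj {g : F8M.M2} (hg : InR g) : InR g.adj := ⟨hg.2.2.2, hg.2.1, hg.2.2.1, hg.1⟩

theorem inR_conj {g k : F8M.M2} (hg : InR g) (hk : InR k) : InR (F8M.conjM g k) :=
  inR_mul (inR_mul hg hk) (inR_adj hg)

theorem rep_ok : ∀ t < 9, (F8M.rep t).ok = true := by decide +kernel

theorem rep_trace : ∀ t < 8, (F8M.rep t).e00 ^^^ (F8M.rep t).e11 = t := by decide +kernel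

section
variable [CharP K 2] {ξ : K} (hξ : ξ ^ 3 + ξ + 1 = 0)
include hξ

theorem MK_mul {g k : F8M.M2} (hg : InR g) (hk : InR k) : MK ξ (g.mul k) = MK ξ g * MK ξ k := by
  obtain ⟨a, b, c, d⟩ := hg
  obtain ⟨a', b', c', d'⟩ := hk
  ext i j
  fin_cases i <;> fin_cases j <;>
    simp [MK, F8M.M2.mul, Matrix.mul_apply, Fin.sum_univ_two] <;>
    rw [Em_xor hξ _ (mu_lt _ (by assumption) _ (by assumption)) _
      (mu_lt _ (by assumption) _ (by assumption)), Em_mu hξ _ (by assumption) _ (by assumption),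
      Em_mu hξ _ (by assumption) _ (by assumption)]

theorem MK_det {g : F8M.M2} (h : g.ok = true) : (MK ξ g).det = 1 := by
  simp only [F8M.M2.ok, decide_eq_true_eq] at h
  obtain ⟨a, b, c, d, e⟩ := h
  rw [MK, Matrix.det_fin_two_of, CharTwo.sub_eq_add, ← Em_mu hξ _ a _ d, ← Em_mu hξ _ b _ c,
    ← Em_xor hξ _ (mu_lt _ a _ d) _ (mu_lt _ b _ c), e, Em_one]

theorem exists_SL {g : F8M.M2} (h : g.ok = true) : ∃ G : SL(2, K), G.1 = MK ξ g :=
  ⟨⟨MK ξ g, MK_det hξ h⟩, rfl⟩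

theorem conj_val {g k : F8M.M2} (hg : g.ok = true) (hk : k.ok = true) {G R : SL(2, K)}
    (eG : G.1 = MK ξ g) (eR : R.1 = MK ξ k) : (G * R * G⁻¹).1 = MK ξ (F8M.conjM g k) := by
  have ig := inR_of_ok hg
  have ik := inR_of_ok hk
  have ei : (G⁻¹ : SL(2, K)).1 = MK ξ g.adj := by
    rw [show (G⁻¹ : SL(2, K)).1 = Matrix.adjugate G.1 from Matrix.SpecialLinearGroup.coe_inv G, eG,
      Matrix.adjugate_fin_two]
    ext i j
    fin_cases i <;> fin_cases j <;> simp [MK, F8M.M2.adj, CharTwo.neg_eq]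
  rw [F8M.conjM, MK_mul hξ (inR_mul ig ik) (inR_adj ig), MK_mul hξ ig ik, ← eG, ← eR, ← ei]
  rfl

theorem fK_Em (hsq : ∀ x : K, σ x = x ^ 2) {p q r s n : ℕ} (hp : p < 8) (hq : q < 8) (hr : r < 8)
    (hs : s < 8) (hn : n < 256) :
    fK σ (Em ξ p) (Em ξ q) (Em ξ r) (Em ξ s) (Em ξ (n % 2)) (Em ξ (n / 4 % 8)) (Em ξ (n / 32))
      (Em ξ (n / 2 % 2)) = Em ξ (F8M.fM p q r s n) := by
  have hσ : ∀ a < 8, σ (Em ξ a) = Em ξ (F8M.sq a) := fun a ha => by
    rw [hsq, sq, F8M.sq, Em_mu hξ a ha a ha]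
  have n0 : n % 2 < 8 := by omega
  have n1 : n / 4 % 8 < 8 := by omega
  have n2 : n / 32 < 8 := by omega
  have n3 : n / 2 % 2 < 8 := by omega
  simp (disch := (repeat' first | assumption | apply sq_lt | apply mu_lt' | apply xor_lt | decide)) only
    [fK, F8M.fM, Em_xor hξ, Em_mu hξ, hσ]

theorem fM_lt {p q r s n : ℕ} (hp : p < 8) (hq : q < 8) (hr : r < 8) (hs : s < 8) (hn : n < 256) :
    F8M.fM p q r s n < 8 := by
  have n0 : n % 2 < 8 := by omega
  have n1 : n / 4 % 8 < 8 := by omega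
  have n2 : n / 32 < 8 := by omega
  have n3 : n / 2 % 2 < 8 := by omega
  simp only [F8M.fM]
  (repeat' first | assumption | apply sq_lt | apply mu_lt' | apply xor_lt | decide)

end

/-- a state of the orbit of three nodes -/
def KS (σ : K →+* K) (y : G₄) (k : SL(2, K)) : Prop :=
  ∃ x ∈ (D43.tw σ).fix, ∃ v ∈ Cmp true false ⊓ (D43.tw σ).fix, ∃ w ∈ Cmp true true ⊓ (D43.tw σ).fix,
    x * y * x⁻¹ = v * phiA σ k * w

theorem KS.conj (h : F8Frob σ) {y : G₄} {k : SL(2, K)} (hs : KS σ y k) (g : SL(2, K)) :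
    KS σ y (g * k * g⁻¹) := by
  obtain ⟨x, hx, v, hv, w, hw, e⟩ := hs
  refine ⟨phiA σ g * x, Subgroup.mul_mem _ (phiA_fix h.hinv g) hx, _,
    (orbA h.hinv).conj false g rfl v hv, _, (orbA h.hinv).conj true g rfl w hw, ?_⟩
  show phiA σ g * x * y * (phiA σ g * x)⁻¹ =
    phiA σ g * v * (phiA σ g)⁻¹ * phiA σ (g * k * g⁻¹) * (phiA σ g * w * (phiA σ g)⁻¹)
  rw [map_mul, map_mul, map_inv]
  calc phiA σ g * x * y * (phiA σ g * x)⁻¹ = phiA σ g * (x * y * x⁻¹) * (phiA σ g)⁻¹ := by group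
    _ = _ := by rw [e]; group

theorem exists_companion (h : F8Frob σ) (k : SL(2, K)) :
    k = 1 ∨ ∃ g : SL(2, K), (g * k * g⁻¹).1 = !![0, 1; 1, k.1 0 0 + k.1 1 1] := by
  have := h.char
  have h2 : (2 : K) = 0 := CharTwo.two_eq_zero
  have hd := k.2
  rw [Matrix.det_fin_two] at hd
  have hroot : ∀ z : K, (σ (σ z)) ^ 2 = z := fun z => by rw [← h.sq, h.hinv]
  suffices H : k = 1 ∨ ∃ x y : K,
      k.1 0 1 * x ^ 2 + (k.1 0 0 + k.1 1 1) * x * y + k.1 1 0 * y ^ 2 = 1 by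
    refine H.imp_right fun ⟨x, y, e⟩ => ?_
    have hdet : (!![x, y; x * k.1 0 0 + y * k.1 1 0, x * k.1 0 1 + y * k.1 1 1] :
        Matrix (Fin 2) (Fin 2) K).det = 1 := by
      rw [Matrix.det_fin_two_of]
      linear_combination e - (x * y * k.1 0 0 + y ^ 2 * k.1 1 0) * h2
    obtain ⟨g, hg⟩ : ∃ g : SL(2, K),
        g.1 = !![x, y; x * k.1 0 0 + y * k.1 1 0, x * k.1 0 1 + y * k.1 1 1] := ⟨⟨_, hdet⟩, rfl⟩
    have hgk : g.1 * k.1 = !![0, 1; 1, k.1 0 0 + k.1 1 1] * g.1 := by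
      ext i j
      fin_cases i <;> fin_cases j <;> simp [hg, Matrix.mul_apply, Fin.sum_univ_two]
      · linear_combination -x * hd - x * h2
      · linear_combination -y * hd - y * h2
    refine ⟨g, ?_⟩
    have hi : g.1 * (g⁻¹ : SL(2, K)).1 = 1 := congrArg Subtype.val (mul_inv_cancel g)
    show g.1 * k.1 * (g⁻¹ : SL(2, K)).1 = _
    rw [hgk, Matrix.mul_assoc, hi, Matrix.mul_one]
  by_cases h01 : k.1 0 1 = 0
  · by_cases h10 : k.1 1 0 = 0
    · by_cases htr : k.1 0 0 + k.1 1 1 = 0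
      · left
        have e11 : k.1 1 1 = k.1 0 0 := by linear_combination htr - k.1 0 0 * h2
        rw [e11, h01, zero_mul, sub_zero] at hd
        have e00 : k.1 0 0 = 1 := by
          rcases mul_self_eq_one_iff.1 hd with e | e
          · exact e
          · rw [e, CharTwo.neg_eq]
        refine Subtype.ext ?_
        ext i j
        fin_cases i <;> fin_cases j <;> simp [h01, h10, e11, e00]
      · exact Or.inr ⟨(k.1 0 0 + k.1 1 1)⁻¹, 1, by rw [h01, h10]; field_simp; ring⟩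
    · refine Or.inr ⟨0, σ (σ (k.1 1 0)⁻¹), ?_⟩
      rw [hroot]; field_simp; ring
  · refine Or.inr ⟨σ (σ (k.1 0 1)⁻¹), 0, ?_⟩
    rw [hroot]; field_simp; ring

theorem ldu {g : SL(2, K)} {u : Kˣ} (hu : g.1 0 0 = u) :
    g = dn (g.1 1 0 * (u : K)⁻¹) * dSL u * up (g.1 0 1 * (u : K)⁻¹) := by
  have hdet := g.2
  rw [Matrix.det_fin_two, hu] at hdet
  have := u.ne_zero
  refine Subtype.ext ?_
  ext i j
  fin_cases i <;> fin_cases j <;> simp [dSL_val, Matrix.mul_apply, Fin.sum_univ_two, hu]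
  all_goals field_simp
  linear_combination hdet

/-- a state with prescribed parts -/
theorem ks_of_parts (h : F8Frob σ) {y x V W : G₄} {u : Kˣ} (hx : x ∈ (D43.tw σ).fix)
    (hV : V ∈ UF σ false) (hW : W ∈ UF σ true)
    (e : x * y * x⁻¹ = V * tor chevD4 auxD4 (cv σ u 1) * W) :
    KS σ y (dn (cf false 0 V) * dSL u * up (cf true 0 W)) := by
  obtain ⟨v', hv', ev⟩ := decompA_fix h.hinv false hV
  obtain ⟨w', hw', ew⟩ := decompA_fix h.hinv true hW
  refine ⟨x, hx, v', hv', _,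
    (orbA h.hinv).conj true (up (cf true 0 W))⁻¹ rfl w' hw', e.trans ?_⟩
  conv_lhs => rw [ev, ew, el_false, el_true]
  show v' * phiA σ (dn (cf false 0 V)) * tor chevD4 auxD4 (cv σ u 1) *
    (w' * phiA σ (up (cf true 0 W))) = v' * phiA σ (dn (cf false 0 V) * dSL u * up (cf true 0 W)) *
      (phiA σ (up (cf true 0 W))⁻¹ * w' * (phiA σ (up (cf true 0 W))⁻¹)⁻¹)
  rw [map_mul, map_mul, map_inv, show phiA σ (dSL u) = tor chevD4 auxD4 (cv σ u 1) from
    (orbA h.hinv).dsl u]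
  group

theorem wB_el [CharP K 2] (b : Bool) : (wB : SL(2, K)) * el b 1 * wB⁻¹ = el (!b) 1 := by
  rw [mul_inv_eq_iff_eq_mul]
  refine Subtype.ext ?_
  ext i j
  cases b <;> fin_cases i <;> fin_cases j <;>
    simp [wB_val, el, Matrix.mul_apply, Fin.sum_univ_two]

/-- exchanging with the central node in a state with different central coordinates -/
theorem exchange (h : F8Frob σ) [CharP K 2] {y x vg wg : G₄} {u : Kˣ} {P R : K}
    (hx : x ∈ (D43.tw σ).fix) (hv : vg ∈ Cmp true false ⊓ (D43.tw σ).fix)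
    (hw : wg ∈ Cmp true true ⊓ (D43.tw σ).fix)
    (e : x * y * x⁻¹ = vg * phiA σ (dn P) * tor chevD4 auxD4 (cv σ u 1) * (phiA σ (up R) * wg)) :
    (cf false 1 vg = 1 ∧ cf true 1 wg = 0 →
      KS σ y (dn (cf1 pA false vg + P) * dSL u * up (cf1 pA true wg))) ∧
    (cf false 1 vg = 0 ∧ cf true 1 wg = 1 →
      KS σ y (dn (cf1 pA false vg) * dSL u * up (cf1 pA true wg + R))) := by
  have hA := phiA_el_UF (σ := σ) h.hinv
  have hB : ∀ b, phiN 1 (el b (1 : K)) ∈ UF σ b := fun b => phiB_el_UF b (map_one σ)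
  have hn : phiN 1 (wB : SL(2, K)) ∈ (D43.tw σ).fix := phiN_one_fix fix_wB
  set n : G₄ := phiN 1 wB with hndef
  set t : G₄ := tor chevD4 auxD4 (cv σ u 1) with htdef
  have htn : n * t * n⁻¹ = t := by rw [← (torB_comm h u wB).eq, mul_inv_cancel_right]
  have hne : ∀ b, n * phiN 1 (el b (1 : K)) * n⁻¹ = phiN 1 (el (!b) 1) := fun b => by
    rw [hndef, ← map_inv, ← map_mul, ← map_mul, wB_el]
  have hh : ∀ b, phiN 1 (el b (1 : K)) * phiN 1 (el b 1) = 1 := fun b => by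
    rw [← map_mul, el_add, CharTwo.add_self_eq_zero, el_zero, map_one]
  have hnx : n * x ∈ (D43.tw σ).fix := Subgroup.mul_mem _ hn hx
  have hUF : ∀ {b : Bool} {z : G₄}, z ∈ Cmp false b → z ∈ (D43.tw σ).fix →
      n * z * n⁻¹ ∈ UF σ b ∧ n * z * n⁻¹ ∈ Cmp false b := fun {b z} hz hzf =>
    ⟨⟨Cmp_le _ b (phiB_conj b wB hz),
      Subgroup.mul_mem _ (Subgroup.mul_mem _ hn hzf) (Subgroup.inv_mem _ hn)⟩, phiB_conj b wB hz⟩
  constructor
  · rintro ⟨ha, hb⟩
    obtain ⟨-, s2, -, s4⟩ := swap_one (σ := σ) false P hv.1 ha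
    obtain ⟨z1, -, z3, -⟩ := swap_zero (σ := σ) true R hw.1 hb
    obtain ⟨hV, -⟩ := hUF s2
      (Subgroup.mul_mem _ (Subgroup.mul_mem _ hv.2 (hA false P).2) (hB false).2)
    obtain ⟨hW, hW'⟩ := hUF z1 (Subgroup.mul_mem _ (hA true R).2 hw.2)
    have hks := ks_of_parts h (y := y) hnx hV (mul_mem (hB true) hW) (u := u) ?_
    · rw [s4] at hks
      rw [cf_mul true 0 (hB true).1 hW.1, cf_el, if_neg (by decide), zero_add, z3] at hks
      exact hks
    · calc n * x * y * (n * x)⁻¹ = n * (x * y * x⁻¹) * n⁻¹ := by group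
        _ = n * (vg * phiA σ (el false P) * phiN 1 (el false 1)) * n⁻¹ *
            (n * phiN 1 (el false (1 : K)) * n⁻¹) * (n * t * n⁻¹) *
            (n * (phiA σ (el true R) * wg) * n⁻¹) := by
          rw [e, el_false P, el_true]
          conv_lhs => rw [← mul_one (phiA σ (dn P)), ← hh false]
          group
        _ = _ := by
          rw [hne, htn, mul_assoc _ (phiN 1 (el (!false) (1 : K))) t,
            ← show t * phiN 1 (el (!false) (1 : K)) = phiN 1 (el (!false) 1) * t from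
              (torB_comm h u _).eq]
          simp only [Bool.not_false, mul_assoc, htdef]
  · rintro ⟨ha, hb⟩
    obtain ⟨s1, -, s3, -⟩ := swap_one (σ := σ) true R hw.1 hb
    obtain ⟨-, z2, -, z4⟩ := swap_zero (σ := σ) false P hv.1 ha
    obtain ⟨hV, hV'⟩ := hUF z2 (Subgroup.mul_mem _ hv.2 (hA false P).2)
    obtain ⟨hW, -⟩ := hUF s1
      (Subgroup.mul_mem _ (hB true).2 (Subgroup.mul_mem _ (hA true R).2 hw.2))
    have hks := ks_of_parts h (y := y) hnx (mul_mem hV (hB false)) hW (u := u) ?_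
    · rw [s3] at hks
      rw [cf_mul false 0 hV.1 (hB false).1, cf_el, if_neg (by decide), add_zero, z4] at hks
      exact hks
    · calc n * x * y * (n * x)⁻¹ = n * (x * y * x⁻¹) * n⁻¹ := by group
        _ = n * (vg * phiA σ (el false P)) * n⁻¹ * (n * t * n⁻¹) *
            (n * phiN 1 (el true (1 : K)) * n⁻¹) *
            (n * (phiN 1 (el true 1) * (phiA σ (el true R) * wg)) * n⁻¹) := by
          rw [e, el_false, el_true R]
          conv_lhs => rw [← one_mul (phiA σ (up R) * wg), ← hh true]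
          group
        _ = _ := by
          rw [hne, htn, mul_assoc _ t (phiN 1 (el (!true) (1 : K))),
            show t * phiN 1 (el (!true) (1 : K)) = phiN 1 (el (!true) 1) * t from
              (torB_comm h u _).eq]
          simp only [Bool.not_true, mul_assoc, htdef]

section
variable [CharP K 2] {ξ : K} (hξ : ξ ^ 3 + ξ + 1 = 0)
include hξ

/-- the class of a state -/
theorem KS.rep (h : F8Frob σ) {y : G₄} {k : SL(2, K)} (hs : KS σ y k) :
    ∃ t < 9, (t = 8 ∨ Em ξ t = k.1 0 0 + k.1 1 1) ∧ ∃ R : SL(2, K),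
      R.1 = MK ξ (F8M.rep t) ∧ KS σ y R := by
  rcases exists_companion h k with rfl | ⟨g, hg⟩
  · exact ⟨8, by norm_num, Or.inl rfl, 1,
      by simp [MK, F8M.rep, Em, ← Matrix.one_fin_two], hs⟩
  · obtain ⟨t, ht, et⟩ := Em_surj hξ (h.card.trans (by norm_num)) (k.1 0 0 + k.1 1 1)
    refine ⟨t, by omega, Or.inr et, _, ?_, hs.conj h g⟩
    rw [hg, MK, F8M.rep, if_neg (by omega)]
    simp [Em_zero, Em_one, et]

/-- the parts of a conjugate of a state -/
theorem KS.parts (h : F8Frob σ) {y : G₄} {t : ℕ} (ht : t < 9) {R : SL(2, K)}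
    (hR : R.1 = MK ξ (F8M.rep t)) (hs : KS σ y R) :
    ∃ xv < 256, ∃ xw < 256, ∀ g : F8M.M2, g.ok = true → F8M.allowed g (F8M.rep t) = true →
      ∃ u : Kˣ, (u : K) = Em ξ (F8M.conjM g (F8M.rep t)).e00 ∧
      ∃ x ∈ (D43.tw σ).fix, ∃ vg ∈ Cmp true false ⊓ (D43.tw σ).fix,
      ∃ wg ∈ Cmp true true ⊓ (D43.tw σ).fix,
        x * y * x⁻¹ = vg * phiA σ (dn (Em ξ (F8M.conjM g (F8M.rep t)).e10 * (u : K)⁻¹)) *
            tor chevD4 auxD4 (cv σ u 1) *
            (phiA σ (up (Em ξ (F8M.conjM g (F8M.rep t)).e01 * (u : K)⁻¹)) * wg) ∧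
        cf false 1 vg = Em ξ (F8M.aV g xv) ∧ cf true 1 wg = Em ξ (F8M.aW g xw) ∧
        cf1 pA false vg = Em ξ (F8M.dV g xv) ∧ cf1 pA true wg = Em ξ (F8M.dW g xw) := by
  obtain ⟨x, hx, v, hv, w, hw, e⟩ := hs
  have hcard : Nat.card K = 8 := h.card.trans (by norm_num)
  have hbit : ∀ z : K, σ z = z → ∃ a < 2, Em ξ a = z := fun z hz => by
    rcases h.fixed hz with rfl | rfl
    · exact ⟨0, by norm_num, Em_zero ξ⟩
    · exact ⟨1, by norm_num, Em_one ξ⟩
  have hstate : ∀ b, ∀ z ∈ Cmp true b ⊓ (D43.tw σ).fix, ∃ n < 256, X0 b z = Em ξ (n % 2) ∧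
      X1 b z = Em ξ (n / 4 % 8) ∧ X2 b z = Em ξ (n / 32) ∧ X3 b z = Em ξ (n / 2 % 2) := by
    intro b z hz
    obtain ⟨f0, f3⟩ := X_fix b hz.1 hz.2
    obtain ⟨a, ha, ea⟩ := hbit _ f0
    obtain ⟨d, hd, ed⟩ := hbit _ f3
    obtain ⟨p, hp, ep⟩ := Em_surj hξ hcard (X1 b z)
    obtain ⟨r, hr, er⟩ := Em_surj hξ hcard (X2 b z)
    refine ⟨a + 2 * d + 4 * p + 32 * r, by omega, ?_⟩
    rw [← ea, ← ed, ← ep, ← er]
    refine ⟨?_, ?_, ?_, ?_⟩ <;> congr 1 <;> omega
  obtain ⟨xv, hxv, v0, v1, v2, v3⟩ := hstate false v hv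
  obtain ⟨xw, hxw, w0, w1, w2, w3⟩ := hstate true w hw
  refine ⟨xv, hxv, xw, hxw, fun g hg hall => ?_⟩
  obtain ⟨G, hG⟩ := exists_SL hξ hg
  have hk := rep_ok t ht
  have hconj := conj_val hξ hg hk hG hR
  obtain ⟨hc8, -, -, -⟩ := inR_conj (inR_of_ok hg) (inR_of_ok hk)
  have hc0 : (F8M.conjM g (F8M.rep t)).e00 ≠ 0 := by
    intro e0
    simp [F8M.allowed, e0] at hall
  have hcne : Em ξ (F8M.conjM g (F8M.rep t)).e00 ≠ 0 := fun e0 =>
    hc0 (Em_inj hξ hc8 (by norm_num) (e0.trans (Em_zero ξ).symm))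
  set u : Kˣ := Units.mk0 _ hcne with hu
  refine ⟨u, rfl, phiA σ G * x, Subgroup.mul_mem _ (phiA_fix h.hinv G) hx, _,
    (orbA h.hinv).conj false G rfl v hv, _, (orbA h.hinv).conj true G rfl w hw, ?_, ?_⟩
  · have hl : G * R * G⁻¹ = dn (Em ξ (F8M.conjM g (F8M.rep t)).e10 * (u : K)⁻¹) * dSL u *
        up (Em ξ (F8M.conjM g (F8M.rep t)).e01 * (u : K)⁻¹) := by
      have := ldu (g := G * R * G⁻¹) (u := u) (by rw [hconj]; rfl)
      rw [hconj] at this
      exact this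
    show phiA σ G * x * y * (phiA σ G * x)⁻¹ = phiA σ G * v * (phiA σ G)⁻¹ * _ * _ *
      (_ * (phiA σ G * w * (phiA σ G)⁻¹))
    rw [show tor chevD4 auxD4 (cv σ u 1) = phiA σ (dSL u) from ((orbA h.hinv).dsl u).symm,
      show phiA σ G * x * y * (phiA σ G * x)⁻¹ = phiA σ G * (x * y * x⁻¹) * (phiA σ G)⁻¹ by group, e,
      show phiA σ G * (v * phiA σ R * w) * (phiA σ G)⁻¹ = phiA σ G * v * (phiA σ G)⁻¹ *
        (phiA σ G * phiA σ R * (phiA σ G)⁻¹) * (phiA σ G * w * (phiA σ G)⁻¹) by group,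
      ← map_mul, ← map_inv, ← map_mul, hl, map_mul, map_mul]
    simp only [map_inv, mul_assoc]
  · obtain ⟨gv, dv⟩ := cf_conjA false hv.1 hv.2 G
    obtain ⟨gw, dw⟩ := cf_conjA true hw.1 hw.2 G
    obtain ⟨a, b, c, d⟩ := inR_of_ok hg
    simp only [rw2, rw2', hG, MK, v0, v1, v2, v3] at gv dv
    simp only [rw2, rw2', hG, MK, w0, w1, w2, w3] at gw dw
    simp at gv dv gw dw
    exact ⟨gv.trans (fK_Em hξ h.sq a b a b hxv), gw.trans (fK_Em hξ h.sq d c d c hxw),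
      dv.trans (fK_Em hξ h.sq c d a b hxv), dw.trans (fK_Em hξ h.sq b a d c hxw)⟩

theorem exists_lam : ∃ lam : Kˣ, lam ≠ 1 ∧ (lam : K) = Em ξ 6 := by
  have h6 : Em ξ 6 ≠ 0 := fun e =>
    absurd (Em_inj hξ (a := 6) (b := 0) (by norm_num) (by norm_num) (e.trans (Em_zero ξ).symm))
      (by norm_num)
  refine ⟨Units.mk0 _ h6, fun e => ?_, rfl⟩
  have e' : Em ξ 6 = 1 := congrArg Units.val e
  exact absurd (Em_inj hξ (a := 6) (b := 1) (by norm_num) (by norm_num) (e'.trans (Em_one ξ).symm))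
    (by norm_num)

theorem allowed_unit {lam u : Kˣ} (hl : (lam : K) = Em ξ 6) {g k : F8M.M2}
    (hall : F8M.allowed g k = true) (hu : (u : K) = Em ξ (F8M.conjM g k).e00) :
    u = 1 ∨ u = lam ^ 2 ∨ u = (lam ^ 2)⁻¹ := by
  have hsq : ((lam ^ 2 : Kˣ) : K) = Em ξ 2 := by
    rw [Units.val_pow_eq_pow_val, hl, sq, ← Em_mu hξ 6 (by norm_num) 6 (by norm_num)]; rfl
  simp only [F8M.allowed, decide_eq_true_eq] at hall
  rcases hall with e | e | e <;> rw [e] at hu
  · exact Or.inl (Units.ext (hu.trans (Em_one ξ)))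
  · exact Or.inr (Or.inl (Units.ext (hu.trans hsq.symm)))
  · refine Or.inr (Or.inr (eq_inv_of_mul_eq_one_left (Units.ext ?_)))
    rw [Units.val_mul, hu, hsq, ← Em_mu hξ 5 (by norm_num) 2 (by norm_num), Units.val_one]
    exact Em_one ξ

theorem done_equal (h : F8Frob σ) {lam u : Kˣ} (hl1 : lam ≠ 1)
    (hu : u = 1 ∨ u = lam ^ 2 ∨ u = (lam ^ 2)⁻¹) {y x vg wg : G₄} {P R : K}
    (hx : x ∈ (D43.tw σ).fix) (hv : vg ∈ Cmp true false ⊓ (D43.tw σ).fix)
    (hw : wg ∈ Cmp true true ⊓ (D43.tw σ).fix)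
    (e : x * y * x⁻¹ = vg * phiA σ (dn P) * tor chevD4 auxD4 (cv σ u 1) * (phiA σ (up R) * wg))
    (hab : cf false 1 vg = cf true 1 wg) : Done σ (xT σ lam true) y := by
  have hA := phiA_el_UF (σ := σ) h.hinv
  have hvU : vg ∈ UF σ false := (orbA h.hinv).R_le false hv
  have hwU : wg ∈ UF σ true := (orbA h.hinv).R_le true hw
  refine done_good h hl1 hu hx (mul_mem hvU (hA false P)) (mul_mem (hA true R) hwU) ?_ e
  rw [cf_mul false 1 hvU.1 (hA false P).1, cf_mul true 1 (hA true R).1 hwU.1,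
    (phiA_el_cf false P).2.2.1, (phiA_el_cf true R).2.2.1, add_zero, zero_add, hab]

/-- a state outside the two exceptional classes -/
theorem done_class (h : F8Frob σ) {lam : Kˣ} (hl1 : lam ≠ 1) (hl : (lam : K) = Em ξ 6) {y : G₄}
    {k : SL(2, K)} (hs : KS σ y k) (h3 : k.1 0 0 + k.1 1 1 ≠ Em ξ 3)
    (h5 : k.1 0 0 + k.1 1 1 ≠ Em ξ 5) : Done σ (xT σ lam true) y := by
  obtain ⟨t, ht, htr, R, hR, hsR⟩ := hs.rep hξ h
  obtain ⟨p, hp, hpt⟩ : ∃ p ∈ F8M.cert, p.1 = t := by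
    rcases Nat.lt_succ_iff_lt_or_eq.1 ht with ht' | rfl
    · rcases F8M.rep_cases t ht' with h' | rfl | rfl
      · exact h'
      · exact absurd (htr.resolve_left (by norm_num)).symm h3
      · exact absurd (htr.resolve_left (by norm_num)).symm h5
    · exact ⟨_, List.mem_cons_self, rfl⟩
  obtain ⟨xv, hxv, xw, hxw, hparts⟩ := hsR.parts hξ h ht hR
  obtain ⟨g, hg, hall, heq⟩ := F8M.exists_equal hp hpt hxv hxw
  obtain ⟨u, hu, x, hx, vg, hv, wg, hw, e, ea, eb, -, -⟩ := hparts g hg hall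
  exact done_equal hξ h hl1 (allowed_unit hξ hl hall hu) hx hv hw e (by rw [ea, eb, heq])

theorem newTr_val {g : F8M.M2} (hg : g.ok = true) {t : ℕ} (ht : t < 9)
    (hall : F8M.allowed g (F8M.rep t) = true) {u : Kˣ}
    (hu : (u : K) = Em ξ (F8M.conjM g (F8M.rep t)).e00) {xv xw : ℕ} (hxv : xv < 256) (hxw : xw < 256) :
    F8M.newTr g (F8M.rep t) xv xw < 8 ∧ Em ξ (F8M.newTr g (F8M.rep t) xv xw) =
      (u : K) + (u : K)⁻¹ + (u : K) *
        ((if F8M.aV g xv = 1 then Em ξ (F8M.dV g xv) + Em ξ (F8M.conjM g (F8M.rep t)).e10 * (u : K)⁻¹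
          else Em ξ (F8M.dV g xv)) *
        (if F8M.aV g xv = 1 then Em ξ (F8M.dW g xw)
          else Em ξ (F8M.dW g xw) + Em ξ (F8M.conjM g (F8M.rep t)).e01 * (u : K)⁻¹)) := by
  obtain ⟨a, b, c, d⟩ := inR_of_ok hg
  obtain ⟨c00, c01, c10, -⟩ := inR_conj (inR_of_ok hg) (inR_of_ok (rep_ok t ht))
  have hc0 : (F8M.conjM g (F8M.rep t)).e00 ≠ 0 := by
    intro e0
    simp [F8M.allowed, e0] at hall
  have hi8 : F8M.inv (F8M.conjM g (F8M.rep t)).e00 < 8 := (inv_tab _ c00 hc0).1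
  have hdV : F8M.dV g xv < 8 := fM_lt hξ c d a b hxv
  have hdW : F8M.dW g xw < 8 := fM_lt hξ b a d c hxw
  rw [hu, ← Em_inv hξ c00 hc0]
  simp only [F8M.newTr]
  constructor
  · split_ifs <;> (repeat' first | assumption | apply sq_lt | apply mu_lt' | apply xor_lt | decide)
  · split_ifs <;>
      simp (disch := (repeat' first | assumption | apply sq_lt | apply mu_lt' | apply xor_lt | decide)) only [Em_xor hξ, Em_mu hξ] <;>
      ring

/-- every state is covered -/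
theorem done_all (h : F8Frob σ) {lam : Kˣ} (hl1 : lam ≠ 1) (hl : (lam : K) = Em ξ 6) {y : G₄}
    {k : SL(2, K)} (hs : KS σ y k) : Done σ (xT σ lam true) y := by
  by_cases hgood : k.1 0 0 + k.1 1 1 ≠ Em ξ 3 ∧ k.1 0 0 + k.1 1 1 ≠ Em ξ 5
  · exact done_class hξ h hl1 hl hs hgood.1 hgood.2
  obtain ⟨t, ht, htr, R, hR, hsR⟩ := hs.rep hξ h
  by_cases ht' : t = 3 ∨ t = 5
  swap
  · refine done_class hξ h hl1 hl hsR ?_ ?_ <;>
      rw [hR] <;> intro e <;>
      (rcases Nat.lt_succ_iff_lt_or_eq.1 ht with h8 | rfl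
       · have := rep_trace t h8
         obtain ⟨i00, -, -, i11⟩ := inR_of_ok (rep_ok t ht)
         simp [MK] at e
         rw [← Em_xor hξ _ i00 _ i11, this] at e
         exact ht' (by have := Em_inj hξ h8 (by norm_num) e; omega)
       · simp [MK, F8M.rep, Em_one, CharTwo.add_self_eq_zero] at e
         first
           | exact absurd (Em_inj hξ (a := 0) (b := 3) (by norm_num) (by norm_num)
               ((Em_zero ξ).trans e)) (by norm_num)
           | exact absurd (Em_inj hξ (a := 0) (b := 5) (by norm_num) (by norm_num)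
               ((Em_zero ξ).trans e)) (by norm_num))
  obtain ⟨xv, hxv, xw, hxw, hparts⟩ := hsR.parts hξ h ht hR
  obtain ⟨g, hg, hall, hesc⟩ := F8M.exists_escape ht' hxv hxw
  obtain ⟨u, hu, x, hx, vg, hv, wg, hw, e, ea, eb, eda, edb⟩ := hparts g hg hall
  by_cases heq : F8M.aV g xv = F8M.aW g xw
  · exact done_equal hξ h hl1 (allowed_unit hξ hl hall hu) hx hv hw e (by rw [ea, eb, heq])
  have hne : cf false 1 vg ≠ cf true 1 wg := by
    rw [ea, eb]
    obtain ⟨a, b, c, d⟩ := inR_of_ok hg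
    exact fun e' => heq (Em_inj hξ (fM_lt hξ a b a b hxv) (fM_lt hξ d c d c hxw) e')
  have hva := (decompB_fix false ((orbA h.hinv).R_le false hv)).1
  have hwb := (decompB_fix true ((orbA h.hinv).R_le true hw)).1
  obtain ⟨hnt, hntv⟩ := newTr_val hξ hg ht hall hu hxv hxw
  simp only [F8M.escapes, heq, decide_false, Bool.false_or, Bool.not_eq_true', decide_eq_false_iff_not]
    at hesc
  push Not at hesc
  have aV8 : F8M.aV g xv < 8 := by
    obtain ⟨a, b, -, -⟩ := inR_of_ok hg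
    exact fM_lt hξ a b a b hxv
  obtain ⟨hx1, hx0⟩ := exchange h hx hv hw e
  have htrace : ∀ P2 R2 : K, (dn P2 * dSL u * up R2 : SL(2, K)).1 0 0 +
      (dn P2 * dSL u * up R2 : SL(2, K)).1 1 1 = (u : K) + (u : K)⁻¹ + (u : K) * (P2 * R2) := by
    intro P2 R2
    simp [dSL_val, Matrix.mul_apply, Fin.sum_univ_two]
    ring
  rcases h.fixed hva with a0 | a1
  · have b1 : cf true 1 wg = 1 := (h.fixed hwb).resolve_left fun b0 => hne (a0.trans b0.symm)
    refine done_class hξ h hl1 hl (hx0 ⟨a0, b1⟩) ?_ ?_ <;> rw [htrace, eda, edb] <;> intro e'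
    all_goals
      have hna : F8M.aV g xv ≠ 1 := fun e1 => by
        rw [a0, e1, Em_one] at ea; exact zero_ne_one ea
      rw [if_neg hna, if_neg hna] at hntv
      rw [← hntv] at e'
      first
        | exact hesc.1 (Em_inj hξ hnt (by norm_num) e')
        | exact hesc.2 (Em_inj hξ hnt (by norm_num) e')
  · have b0 : cf true 1 wg = 0 := (h.fixed hwb).resolve_right fun b1 => hne (a1.trans b1.symm)
    refine done_class hξ h hl1 hl (hx1 ⟨a1, b0⟩) ?_ ?_ <;> rw [htrace, eda, edb] <;> intro e'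
    all_goals
      have hya : F8M.aV g xv = 1 := Em_inj hξ aV8 (by norm_num) (by rw [← ea, a1, Em_one])
      rw [if_pos hya, if_pos hya] at hntv
      rw [← hntv] at e'
      first
        | exact hesc.1 (Em_inj hξ hnt (by norm_num) e')
        | exact hesc.2 (Em_inj hξ hnt (by norm_num) e')

end

/-- `q = 2` -/
theorem cover_small [Fintype K] (p : ℕ) [Fact p.Prime] (hp : p ∣ 2) (hσ : ∀ x, σ x = x ^ 2)
    (hK : Fintype.card K = 2 ^ 3) :
    ∃ x : twistedD4 K 2, ¬ p ∣ orderOf x ∧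
      ∀ g : twistedD4 K 2, g ≠ 1 → ∃ u v : twistedD4 K 2, g = (u * x * u⁻¹) * (v * x * v⁻¹) := by
  have hc : CharP K 2 := charP_of_card_eq_prime_pow (f := 3) hK
  have h : F8Frob σ := ⟨hc, hσ, by rw [Nat.card_eq_fintype_card, hK]⟩
  obtain ⟨ξ, hξ⟩ := exists_xi h
  obtain ⟨lam, hl1, hl⟩ := exists_lam hξ
  refine finish p hσ hK (xT_fix h lam true) (n := 21) ?_ ?_ fun y hy _ => ?_
  · have h3 := (cube_eq h lam true).1
    have hp7 : ∀ n : ℕ, (tor chevD4 auxD4 (cv σ (lam ^ 3) 1) : G₄) ^ n =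
        tor chevD4 auxD4 (cv σ ((lam ^ 3) ^ n) 1) := by
      intro n
      induction n with
      | zero => rw [pow_zero, pow_zero, cv_one, map_one]
      | succ n ih => rw [pow_succ, ih, ← map_mul, cv_mul, mul_one, ← pow_succ]
    rw [show (21 : ℕ) = 3 * 7 from rfl, pow_mul, h3, hp7, h.pow_seven, cv_one, map_one]
  · intro h21
    rw [(Nat.prime_dvd_prime_iff_eq Fact.out Nat.prime_two).1 hp] at h21
    exact absurd h21 (by norm_num)
  · obtain ⟨x, hx, v, hv, w, hw, e⟩ := exists_vw hσ hK hy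
    have hs : St σ y 1 := ⟨x, hx, v, hv, w, hw, by rw [map_one, mul_one]; exact e⟩
    obtain ⟨g, -, -, x', hx', v', hv', w', hw', e'⟩ :=
      (orbA h.hinv).ost_of_st (Subgroup.one_mem _) hs
    refine done_all hξ h hl1 hl (k := g) ⟨x', hx', v', hv', w', hw', ?_⟩
    rw [map_one, mul_one] at e'
    exact e'

end CfsgLib.ThompsonD43
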