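import Cfsg.Agent.Lib.KnownB.ThompsonD43.Three

/-!
In characteristic two the coordinate at a fundamental root transforms linearly under the rank one
subgroup of an adjacent node.
-/

set_option autoImplicit false
set_option maxRecDepth 100000

namespace CfsgLib.ThompsonD43

open Cfsg.Lie Matrix CfsgLib.Chev CfsgLib.Chev.OrdList
open CfsgLib.Steinberg.R1Data (up dn)
open CfsgLib.Chev.D4Torus (gen_induction map_up map_dn)
open scoped MatrixGroups

variable {K : Type*} [Field K]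

local notation "g₄" => stdD4.good
local notation "G₄" => GL chevD4.Idx K

/-- the root produced by conjugating a root element -/
noncomputable def tgt (a s : ℕ) : Option ℕ := (auxD4.terms a s).head?.map Prod.fst

/-- the list of pairs to be considered: orbit, acting node, measured node -/
def adjPairs : List (Bool × Fin 4 × Fin 4) := [(true, 0, 1), (true, 2, 1), (true, 3, 1), (false, 1, 0)]

theorem adj_orb : ∀ p ∈ adjPairs, inOrb p.1 p.2.1 = true := by decide +kernel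

theorem adj_tab : ∀ b : Bool, (adjPairs.all fun p => (cmp p.1 b).all fun s =>
    decide (tgt (sr b p.2.1).val s ≠ some (sr b p.2.2).val) &&
    decide ((∃ s' ∈ cmp p.1 b, tgt (sr b p.2.1).val s = some s' ∧
      tgt (sr (!b) p.2.1).val s' = some (sr b p.2.2).val) ↔ s = (sr b p.2.2).val)) = true := by
  intro b
  cases b <;> decide +kernel

theorem form_tab : ∀ b c : Bool, (adjPairs.all fun p => (cmp p.1 b).all fun s =>
    decide (s ≠ (sr c p.2.1).val ∧ s ≠ auxD4.neg (sr c p.2.1).val) &&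
    decide ((auxD4.terms (sr c p.2.1).val s).length ≤ 1) &&
    (auxD4.terms (sr c p.2.1).val s).all (fun q =>
      decide ((q.2.1 = 1 ∨ q.2.1 = -1) ∧ q.2.2 = (1, 1) ∧ q.1 ∈ cmp p.1 b))) = true := by
  intro b c
  cases b <;> cases c <;> decide +kernel

variable [CharP K 2]

theorem conj_gen {p : Bool × Fin 4 × Fin 4} (hp : p ∈ adjPairs) {b : Bool} (c : Bool) {s : ℕ}
    (hs : s ∈ cmp p.1 b) (t u : K) :
    (tgt (sr c p.2.1).val s = none ∧
        phiN p.2.1 (el c t) * xG g₄ s u * (phiN p.2.1 (el c t))⁻¹ = xG g₄ s u) ∨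
      ∃ s' ∈ cmp p.1 b, tgt (sr c p.2.1).val s = some s' ∧
        phiN p.2.1 (el c t) * xG g₄ s u * (phiN p.2.1 (el c t))⁻¹ =
          xG g₄ s u * xG g₄ s' (t * u) := by
  have h := List.all_eq_true.1 (List.all_eq_true.1 (form_tab b c) p hp) s hs
  simp only [Bool.and_eq_true, decide_eq_true_eq, List.all_eq_true] at h
  obtain ⟨⟨⟨h1, h2⟩, hlen⟩, hq⟩ := h
  have hconj := KnownB.ChevField.comm_word (F := K) stdD4 (sr c p.2.1).isLt (cmp_lt _ _ _ hs) h1 h2 (-t) u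
  have e : phiN p.2.1 (el c t) * xG g₄ s u * (phiN p.2.1 (el c t))⁻¹ = xG g₄ s u *
      ((auxD4.terms (sr c p.2.1).val s).map fun q =>
        xG g₄ q.1 ((q.2.1 : K) * (-(-t)) ^ q.2.2.1 * u ^ q.2.2.2)).prod := by
    rw [phiN_el, xG_inv, mul_assoc, hconj, mul_assoc (xG g₄ (sr c p.2.1).val (-t)), ← mul_assoc,
      xG_add, add_neg_cancel, xG_zero, one_mul]
  rcases hl : auxD4.terms (sr c p.2.1).val s with _ | ⟨q, l⟩
  · exact Or.inl ⟨by rw [tgt, hl]; rfl, by rw [e, hl]; simp⟩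
  · rw [hl] at hlen hq
    obtain rfl : l = [] := List.eq_nil_of_length_eq_zero (by simp at hlen ⊢; omega)
    obtain ⟨hc, h11, hm⟩ := hq q List.mem_cons_self
    refine Or.inr ⟨q.1, hm, by rw [tgt, hl]; rfl, ?_⟩
    have hone : (q.2.1 : K) = 1 := by rcases hc with hc | hc <;> simp [hc, CharTwo.neg_eq]
    rw [e, hl, List.map_cons, List.map_nil, List.prod_cons, List.prod_nil, mul_one, hone, h11]
    simp

/-- the second coordinate -/
noncomputable def cf1 (p : Bool × Fin 4 × Fin 4) (b : Bool) (v : G₄) : K :=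
  cf b p.2.2 (phiN p.2.1 (el (!b) 1) * v * (phiN p.2.1 (el (!b) 1))⁻¹) + cf b p.2.2 v

theorem conj_Cmp {p : Bool × Fin 4 × Fin 4} (hp : p ∈ adjPairs) (b : Bool) (x : SL(2, K)) {v : G₄}
    (hv : v ∈ Cmp p.1 b) : phiN p.2.1 x * v * (phiN p.2.1 x)⁻¹ ∈ Cmp p.1 b :=
  (Subgroup.mem_normalizer_iff.1 (phiN_norm (adj_orb p hp) b x) v).1 hv

theorem cf1_mul {p : Bool × Fin 4 × Fin 4} (hp : p ∈ adjPairs) {b : Bool} {u v : G₄}
    (hu : u ∈ Cmp p.1 b) (hv : v ∈ Cmp p.1 b) : cf1 p b (u * v) = cf1 p b u + cf1 p b v := by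
  simp only [cf1]
  rw [show phiN p.2.1 (el (!b) (1 : K)) * (u * v) * (phiN p.2.1 (el (!b) 1))⁻¹ =
      (phiN p.2.1 (el (!b) 1) * u * (phiN p.2.1 (el (!b) 1))⁻¹) *
        (phiN p.2.1 (el (!b) 1) * v * (phiN p.2.1 (el (!b) 1))⁻¹) by group,
    cf_mul b _ (Cmp_le _ b (conj_Cmp hp b _ hu)) (Cmp_le _ b (conj_Cmp hp b _ hv)),
    cf_mul b _ (Cmp_le _ b hu) (Cmp_le _ b hv)]
  ring

theorem cf1_gen {p : Bool × Fin 4 × Fin 4} (hp : p ∈ adjPairs) {b : Bool} {s : ℕ}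
    (hs : s ∈ cmp p.1 b) (u : K) :
    cf1 p b (xG g₄ s u) =
      if tgt (sr (!b) p.2.1).val s = some (sr b p.2.2).val then u else 0 := by
  have h2 : (2 : K) = 0 := CharTwo.two_eq_zero
  simp only [cf1]
  rcases conj_gen hp (!b) hs 1 u with ⟨h, e⟩ | ⟨s', hs', h, e⟩
  · rw [e, h, if_neg (by simp), CharTwo.add_self_eq_zero]
  · rw [e, h, cf_mul b _ (Cmp_le _ b (xG_mem_UL g₄ hs _)) (Cmp_le _ b (xG_mem_UL g₄ hs' _)),
      cf_xG b _ (cmp_lt _ _ _ hs'), one_mul]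
    by_cases e' : s' = (sr b p.2.2).val
    · rw [if_pos e', if_pos (by rw [e'])]; linear_combination cf b p.2.2 (xG g₄ s u) * h2
    · rw [if_neg e', if_neg (by simpa using e')]; linear_combination cf b p.2.2 (xG g₄ s u) * h2

/-- identities of homomorphisms on a complement are checked on root elements -/
theorem hom_eq {o b : Bool} {F G : G₄ → K}
    (hF : ∀ u ∈ Cmp o b, ∀ v ∈ Cmp o b, F (u * v) = F u + F v)
    (hG : ∀ u ∈ Cmp o b, ∀ v ∈ Cmp o b, G (u * v) = G u + G v)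
    (hgen : ∀ s ∈ cmp o b, ∀ u, F (xG g₄ s u) = G (xG g₄ s u)) {v : G₄} (hv : v ∈ Cmp o b) :
    F v = G v := by
  have h1 : ∀ H : G₄ → K, (∀ u ∈ Cmp o b, ∀ v ∈ Cmp o b, H (u * v) = H u + H v) → H 1 = 0 := by
    intro H hH
    have := hH 1 (one_mem _) 1 (one_mem _)
    rw [one_mul] at this
    linear_combination -this
  refine (Subgroup.closure_induction (p := fun x _ => x ∈ Cmp o b ∧ F x = G x) ?_
    ⟨one_mem _, by rw [h1 F hF, h1 G hG]⟩ ?_ ?_ hv).2
  · rintro _ ⟨s, u, hs, rfl⟩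
    exact ⟨xG_mem_UL g₄ hs u, hgen s hs u⟩
  · rintro x y _ _ ⟨hx, ex⟩ ⟨hy, ey⟩
    exact ⟨mul_mem hx hy, by rw [hF x hx y hy, hG x hx y hy, ex, ey]⟩
  · rintro x _ ⟨hx, ex⟩
    have a1 := hF x hx _ (inv_mem hx)
    have a2 := hG x hx _ (inv_mem hx)
    rw [mul_inv_cancel, h1 F hF] at a1
    rw [mul_inv_cancel, h1 G hG] at a2
    exact ⟨inv_mem hx, by linear_combination a2 - a1 - ex⟩

/-- the pair of coordinates, ordered by the sign -/
noncomputable def pairH (p : Bool × Fin 4 × Fin 4) (b : Bool) (v : G₄) : Fin 2 → K :=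
  if b then ![cf1 p b v, cf b p.2.2 v] else ![cf b p.2.2 v, cf1 p b v]

theorem conj_el {p : Bool × Fin 4 × Fin 4} (hp : p ∈ adjPairs) (b : Bool) (t : K) {v : G₄}
    (hv : v ∈ Cmp p.1 b) :
    cf b p.2.2 (phiN p.2.1 (el b t) * v * (phiN p.2.1 (el b t))⁻¹) = cf b p.2.2 v ∧
    cf1 p b (phiN p.2.1 (el b t) * v * (phiN p.2.1 (el b t))⁻¹) = cf1 p b v + t * cf b p.2.2 v ∧
    cf b p.2.2 (phiN p.2.1 (el (!b) t) * v * (phiN p.2.1 (el (!b) t))⁻¹) =
      cf b p.2.2 v + t * cf1 p b v ∧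
    cf1 p b (phiN p.2.1 (el (!b) t) * v * (phiN p.2.1 (el (!b) t))⁻¹) = cf1 p b v := by
  have tab : ∀ s ∈ cmp p.1 b, tgt (sr b p.2.1).val s ≠ some (sr b p.2.2).val ∧
      ((∃ s' ∈ cmp p.1 b, tgt (sr b p.2.1).val s = some s' ∧
        tgt (sr (!b) p.2.1).val s' = some (sr b p.2.2).val) ↔ s = (sr b p.2.2).val) := by
    intro s hs
    have h := List.all_eq_true.1 (List.all_eq_true.1 (adj_tab b) p hp) s hs
    simpa using h
  have hc : ∀ c (t : K) (u w : G₄), phiN p.2.1 (el c t) * (u * w) * (phiN p.2.1 (el c t))⁻¹ =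
      (phiN p.2.1 (el c t) * u * (phiN p.2.1 (el c t))⁻¹) *
        (phiN p.2.1 (el c t) * w * (phiN p.2.1 (el c t))⁻¹) := fun c t u w => by group
  have hcf : ∀ c (t : K), ∀ u ∈ Cmp p.1 b, ∀ w ∈ Cmp p.1 b,
      cf b p.2.2 (phiN p.2.1 (el c t) * (u * w) * (phiN p.2.1 (el c t))⁻¹) =
        cf b p.2.2 (phiN p.2.1 (el c t) * u * (phiN p.2.1 (el c t))⁻¹) +
          cf b p.2.2 (phiN p.2.1 (el c t) * w * (phiN p.2.1 (el c t))⁻¹) := fun c t u hu w hw => by
    rw [hc, cf_mul b _ (Cmp_le _ b (conj_Cmp hp b _ hu)) (Cmp_le _ b (conj_Cmp hp b _ hw))]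
  have hadd : ∀ u ∈ (Cmp p.1 b : Subgroup G₄), ∀ w ∈ (Cmp p.1 b : Subgroup G₄),
      cf b p.2.2 (u * w) = cf b p.2.2 u + cf b p.2.2 w := fun u hu w hw =>
    cf_mul b _ (Cmp_le _ b hu) (Cmp_le _ b hw)
  have k2 : ∀ t : K, ∀ v ∈ Cmp p.1 b,
      cf b p.2.2 (phiN p.2.1 (el (!b) t) * v * (phiN p.2.1 (el (!b) t))⁻¹) =
        cf b p.2.2 v + t * cf1 p b v := by
    intro t v hv
    refine hom_eq (F := fun v => cf b p.2.2 (phiN p.2.1 (el (!b) t) * v * (phiN p.2.1 (el (!b) t))⁻¹))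
      (hcf (!b) t)
      (G := fun v => cf b p.2.2 v + t * cf1 p b v)
      (fun u hu w hw => by simp only [hadd u hu w hw, cf1_mul hp hu hw]; ring) (fun s hs u => ?_) hv
    simp only [cf1_gen hp hs]
    rcases conj_gen hp (!b) hs t u with ⟨h, e⟩ | ⟨s', hs', h, e⟩
    · rw [e, h, if_neg (by simp), mul_zero, add_zero]
    · rw [e, hadd _ (xG_mem_UL g₄ hs _) _ (xG_mem_UL g₄ hs' _), h, cf_xG b _ (cmp_lt _ _ _ hs')]
      by_cases e' : s' = (sr b p.2.2).val
      · rw [if_pos e', if_pos (by rw [e'])]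
      · rw [if_neg e', if_neg (by simpa using e'), mul_zero]
  refine ⟨?_, ?_, k2 t v hv, ?_⟩
  · refine hom_eq (F := fun v => cf b p.2.2 (phiN p.2.1 (el b t) * v * (phiN p.2.1 (el b t))⁻¹))
      (hcf b t) hadd (fun s hs u => ?_) hv
    rcases conj_gen hp b hs t u with ⟨-, e⟩ | ⟨s', hs', h, e⟩
    · rw [e]
    · have hne : s' ≠ (sr b p.2.2).val := fun e' => (tab s hs).1 (by rw [h, e'])
      rw [e, hadd _ (xG_mem_UL g₄ hs _) _ (xG_mem_UL g₄ hs' _), cf_xG b _ (cmp_lt _ _ _ hs'),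
        if_neg hne, add_zero]
  · refine hom_eq (F := fun v => cf1 p b (phiN p.2.1 (el b t) * v * (phiN p.2.1 (el b t))⁻¹))
      (G := fun v => cf1 p b v + t * cf b p.2.2 v)
      (fun u hu w hw => by simp only [hc, cf1_mul hp (conj_Cmp hp b _ hu) (conj_Cmp hp b _ hw)])
      (fun u hu w hw => by simp only [hadd u hu w hw, cf1_mul hp hu hw]; ring) (fun s hs u => ?_) hv
    have hiff := (tab s hs).2
    show cf1 p b (phiN p.2.1 (el b t) * xG g₄ s u * (phiN p.2.1 (el b t))⁻¹) =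
      cf1 p b (xG g₄ s u) + t * cf b p.2.2 (xG g₄ s u)
    rw [cf_xG b _ (cmp_lt _ _ _ hs)]
    rcases conj_gen hp b hs t u with ⟨h, e⟩ | ⟨s', hs', h, e⟩
    · rw [e, if_neg fun e' => by obtain ⟨_, -, h', -⟩ := hiff.2 e'; simp [h] at h', mul_zero, add_zero]
    · rw [e, cf1_mul hp (xG_mem_UL g₄ hs _) (xG_mem_UL g₄ hs' _), cf1_gen hp hs' (t * u)]
      by_cases e' : tgt (sr (!b) p.2.1).val s' = some (sr b p.2.2).val
      · rw [if_pos e', if_pos (hiff.1 ⟨s', hs', h, e'⟩)]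
      · rw [if_neg e', if_neg fun e2 => by
          obtain ⟨s'', -, h', h''⟩ := hiff.2 e2
          rw [h, Option.some.injEq] at h'
          exact e' (h' ▸ h''), mul_zero]
  · have hv' := conj_Cmp hp b (el (!b) t) hv
    show cf b p.2.2 _ + cf b p.2.2 _ = _
    rw [show phiN p.2.1 (el (!b) 1) * (phiN p.2.1 (el (!b) t) * v * (phiN p.2.1 (el (!b) t))⁻¹) *
      (phiN p.2.1 (el (!b) 1))⁻¹ = phiN p.2.1 (el (!b) (1 + t)) * v *
        (phiN p.2.1 (el (!b) (1 + t)))⁻¹ by rw [← el_add, map_mul]; group, k2 _ v hv, k2 _ v hv]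
    have h2 : (2 : K) = 0 := CharTwo.two_eq_zero
    linear_combination (cf b p.2.2 v + t * cf1 p b v) * h2

/-- the pair transforms by the natural representation -/
theorem pairH_conj {p : Bool × Fin 4 × Fin 4} (hp : p ∈ adjPairs) (b : Bool) (x : SL(2, K)) :
    ∀ v ∈ Cmp p.1 b, pairH p b (phiN p.2.1 x * v * (phiN p.2.1 x)⁻¹) = x.1 *ᵥ pairH p b v := by
  let S : Subgroup SL(2, K) :=
    { carrier := {x | ∀ v ∈ Cmp p.1 b,
        pairH p b (phiN p.2.1 x * v * (phiN p.2.1 x)⁻¹) = x.1 *ᵥ pairH p b v}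
      one_mem' := fun v _ => by simp
      mul_mem' := fun {x y} hx hy v hv => by
        rw [map_mul, show phiN p.2.1 x * phiN p.2.1 y * v * (phiN p.2.1 x * phiN p.2.1 y)⁻¹ =
          phiN p.2.1 x * (phiN p.2.1 y * v * (phiN p.2.1 y)⁻¹) * (phiN p.2.1 x)⁻¹ by group,
          hx _ (conj_Cmp hp b y hv), hy v hv, Matrix.mulVec_mulVec]
        rfl
      inv_mem' := fun {x} hx v hv => by
        have h := hx _ (conj_Cmp hp b x⁻¹ hv)
        rw [map_inv, show phiN p.2.1 x * ((phiN p.2.1 x)⁻¹ * v * (phiN p.2.1 x)⁻¹⁻¹) *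
          (phiN p.2.1 x)⁻¹ = v by group] at h
        have hi : (x⁻¹ : SL(2, K)).1 * x.1 = 1 := congrArg Subtype.val (inv_mul_cancel x)
        rw [h, Matrix.mulVec_mulVec, hi, Matrix.one_mulVec, map_inv] }
  refine gen_induction (S := S) (fun t v hv => ?_) (fun t v hv => ?_) x
  · obtain ⟨h1, h2, h3, h4⟩ := conj_el hp b t hv
    funext k
    cases b <;> fin_cases k <;>
      simp [pairH, el, Matrix.mulVec, dotProduct, Fin.sum_univ_two] at h1 h2 h3 h4 ⊢ <;>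
      simp [*, add_comm]
  · obtain ⟨h1, h2, h3, h4⟩ := conj_el hp b t hv
    funext k
    cases b <;> fin_cases k <;>
      simp [pairH, el, Matrix.mulVec, dotProduct, Fin.sum_univ_two] at h1 h2 h3 h4 ⊢ <;>
      simp [*, add_comm]

/-- the row of a sign -/
def rw2 (b : Bool) : Fin 2 := if b then 1 else 0

/-- the other row -/
def rw2' (b : Bool) : Fin 2 := if b then 0 else 1

/-- the coordinate after conjugation -/
theorem cf_phiN {p : Bool × Fin 4 × Fin 4} (hp : p ∈ adjPairs) (b : Bool) (x : SL(2, K)) {v : G₄}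
    (hv : v ∈ Cmp p.1 b) : cf b p.2.2 (phiN p.2.1 x * v * (phiN p.2.1 x)⁻¹) =
      x.1 (rw2 b) (rw2 b) * cf b p.2.2 v + x.1 (rw2 b) (rw2' b) * cf1 p b v := by
  have h := congrFun (pairH_conj hp b x v hv) (rw2 b)
  cases b
  · simpa [pairH, rw2, rw2', Matrix.mulVec, dotProduct, Fin.sum_univ_two] using h
  · simpa [pairH, rw2, rw2', Matrix.mulVec, dotProduct, Fin.sum_univ_two, add_comm] using h

end CfsgLib.ThompsonD43
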