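import Cfsg.Agent.Lib.KnownB.ThompsonD43.TwoCoord

/-!
Exchanging with the central node: the new coordinates at the orbit of three nodes.
-/

set_option autoImplicit false
set_option maxRecDepth 100000

namespace CfsgLib.ThompsonD43

open Cfsg.Lie Matrix CfsgLib.Chev CfsgLib.Chev.OrdList
open CfsgLib.Steinberg.R1Data (up dn)
open scoped MatrixGroups

variable {K : Type*} [Field K] {σ : K →+* K}

local notation "g₄" => stdD4.good
local notation "G₄" => GL chevD4.Idx K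

/-- the roots of a sign outside both orbits -/
noncomputable def meetL (b : Bool) : List ℕ :=
  (cmp true b).filter fun s => decide (s ∈ cmp false b)

theorem meet_tabs : ∀ b : Bool,
    ((meetL b).all fun s => decide (s ∈ cmp true b ∧ s ∈ cmp false b) &&
      pairChk chevD4 auxD4 (sr b 1).val s (meetL b)) = true ∧
    ((cmp true b).all fun s => decide (s = (sr b 1).val ∨ s ∈ meetL b)) = true ∧
    (sr b 1).val ∈ cmp true b ∧
    tgt (sr (!b) 0).val (sr b 1).val ≠ some (sr b 1).val ∧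
    ∀ i : Fin 4, inOrb true i = true → (sr b i).val ∈ cmp false b ∧
      tgt (sr (!b) 1).val (sr b i).val ≠ some (sr b 0).val := by
  intro b
  cases b <;> decide +kernel

/-- the subgroup outside both orbits -/
noncomputable def Meet (b : Bool) : Subgroup G₄ := UL K g₄ (meetL b)

theorem meet_mem {b : Bool} {s : ℕ} (hs : s ∈ meetL b) : s ∈ cmp true b ∧ s ∈ cmp false b := by
  have h := List.all_eq_true.1 (meet_tabs b).1 s hs
  simp only [Bool.and_eq_true, decide_eq_true_eq] at h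
  exact h.1

theorem Meet_le (b : Bool) :
    (Meet b : Subgroup G₄) ≤ Cmp true b ∧ (Meet b : Subgroup G₄) ≤ Cmp false b := by
  constructor <;> refine (Subgroup.closure_le _).2 ?_ <;> rintro _ ⟨s, u, hs, rfl⟩
  · exact xG_mem_UL g₄ (meet_mem hs).1 u
  · exact xG_mem_UL g₄ (meet_mem hs).2 u

theorem meet_conj (b : Bool) (t : K) {z : G₄} (hz : z ∈ Meet b) :
    phiN 1 (el b t) * z * (phiN 1 (el b t))⁻¹ ∈ Meet b := by
  refine conj_UL (fun s hs u => ?_) hz
  have h := List.all_eq_true.1 (meet_tabs b).1 s hs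
  simp only [Bool.and_eq_true] at h
  obtain ⟨w, hw, e⟩ := pair_conj stdD4 h.2 t u
  rw [phiN_el, e]
  exact mul_mem (xG_mem_UL g₄ hs u) hw

/-- splitting a complement of the orbit of three nodes at the central node -/
theorem meet_split (b : Bool) {z : G₄} (hz : z ∈ Cmp true b) :
    ∃ z' ∈ Meet b, z = z' * phiN 1 (el b (cf b 1 z)) := by
  suffices h : z ∈ Cmp true b ∧ ∃ z' ∈ Meet b, ∃ s : K, z = z' * phiN 1 (el b s) by
    obtain ⟨-, z', hz', s, rfl⟩ := h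
    refine ⟨z', hz', ?_⟩
    rw [cf_mul b 1 (Cmp_le true b ((Meet_le b).1 hz')) (phiN_el_mem 1 b s),
      cf_Cmp (show inOrb false 1 = true by decide) ((Meet_le b).2 hz'), cf_el, if_pos rfl, zero_add]
  refine Subgroup.closure_induction
    (p := fun x _ => x ∈ Cmp true b ∧ ∃ z' ∈ Meet b, ∃ s : K, x = z' * phiN 1 (el b s))
    ?_ ⟨one_mem _, 1, one_mem _, 0, by simp [el_zero]⟩ ?_ ?_ hz
  · rintro _ ⟨s, u, hs, rfl⟩
    refine ⟨xG_mem_UL g₄ hs u, ?_⟩
    rcases of_decide_eq_true (List.all_eq_true.1 (meet_tabs b).2.1 s hs) with h | h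
    · exact ⟨1, one_mem _, u, by rw [one_mul, phiN_el, h]⟩
    · exact ⟨_, xG_mem_UL g₄ h u, 0, by simp [el_zero]⟩
  · rintro x y _ _ ⟨hx, x', hx', s, rfl⟩ ⟨hy, y', hy', t, rfl⟩
    refine ⟨mul_mem hx hy, x' * (phiN 1 (el b s) * y' * (phiN 1 (el b s))⁻¹),
      mul_mem hx' (meet_conj b s hy'), s + t, ?_⟩
    rw [← el_add, map_mul]; group
  · rintro x _ ⟨hx, x', hx', s, rfl⟩
    refine ⟨inv_mem hx, (phiN 1 (el b s))⁻¹ * x'⁻¹ * phiN 1 (el b s), ?_, -s, ?_⟩
    · have h := meet_conj b (-s) (inv_mem hx')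
      rwa [← el_inv, map_inv, inv_inv] at h
    · rw [← el_inv, map_inv]; group

variable [CharP K 2]

/-- on the intersection both second coordinates agree -/
theorem cf1_meet (b : Bool) {z : G₄} (hz : z ∈ Meet b) : cf1 pM b z = cf1 pA b z := by
  refine (Subgroup.closure_induction
    (p := fun x _ => x ∈ Meet b ∧ cf1 pM b x = cf1 pA b x) ?_ ?_ ?_ ?_ hz).2
  · rintro _ ⟨s, u, hs, rfl⟩
    refine ⟨xG_mem_UL g₄ hs u, ?_⟩
    rw [cf1_gen pM_mem (show s ∈ cmp pM.1 b from (meet_mem hs).2),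
      cf1_gen pA_mem (show s ∈ cmp pA.1 b from (meet_mem hs).1)]
    have h := of_decide_eq_true (List.all_eq_true.1 (meet_tab b) s (meet_mem hs).1) (meet_mem hs).2
    simp only [pM, pA]
    exact if_congr h rfl rfl
  · refine ⟨one_mem _, ?_⟩
    simp [cf1, cf_one]
  · rintro x y _ _ ⟨hx, ex⟩ ⟨hy, ey⟩
    refine ⟨mul_mem hx hy, ?_⟩
    rw [cf1_mul pM_mem ((Meet_le b).2 hx) ((Meet_le b).2 hy),
      cf1_mul pA_mem ((Meet_le b).1 hx) ((Meet_le b).1 hy), ex, ey]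
  · rintro x _ ⟨hx, ex⟩
    refine ⟨inv_mem hx, ?_⟩
    have h1 := cf1_mul pM_mem ((Meet_le b).2 hx) ((Meet_le b).2 (inv_mem hx))
    have h2 := cf1_mul pA_mem ((Meet_le b).1 hx) ((Meet_le b).1 (inv_mem hx))
    rw [mul_inv_cancel] at h1 h2
    have h0 : cf1 pM b (1 : G₄) = cf1 pA b 1 := by simp [cf1, cf_one]
    linear_combination h2 - h1 - ex + h0

theorem wB_conj_cf (b : Bool) {z : G₄} (hz : z ∈ Cmp false b) :
    cf b 0 (phiN 1 wB * z * (phiN 1 wB)⁻¹) = cf1 pM b z := by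
  have h := cf_phiN pM_mem b wB (show z ∈ Cmp pM.1 b from hz)
  refine h.trans ?_
  cases b <;> simp [rw2, rw2', wB_val]

/-- the coordinates of an element of the orbit of three nodes -/
theorem phiA_el_cf (b : Bool) (P : K) : phiA σ (el b P) ∈ Cmp false b ∧
    cf b 0 (phiA σ (el b P)) = P ∧ cf b 1 (phiA σ (el b P)) = 0 ∧
    cf1 pM b (phiA σ (el b P)) = 0 := by
  obtain ⟨-, -, -, -, htab⟩ := meet_tabs b
  have hm : ∀ i : Fin 4, inOrb true i = true → ∀ t : K, phiN i (el b t) ∈ Cmp false b ∧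
      cf1 pM b (phiN i (el b t)) = 0 := by
    intro i hi t
    rw [phiN_el]
    refine ⟨xG_mem_UL g₄ (htab i hi).1 t, ?_⟩
    rw [cf1_gen pM_mem (show (sr b i).val ∈ cmp pM.1 b from (htab i hi).1)]
    exact if_neg (htab i hi).2
  rw [phiA_apply, map_el, map_el]
  have m0 := hm 0 rfl P
  have m2 := hm 2 rfl (σ P)
  have m3 := hm 3 rfl (σ (σ P))
  refine ⟨mul_mem (mul_mem m0.1 m2.1) m3.1, ?_, cf_Cmp (show inOrb false 1 = true by decide)
    (mul_mem (mul_mem m0.1 m2.1) m3.1), ?_⟩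
  · rw [cf_mul b 0 (Cmp_le _ b (mul_mem m0.1 m2.1)) (Cmp_le _ b m3.1),
      cf_mul b 0 (Cmp_le _ b m0.1) (Cmp_le _ b m2.1), cf_el, cf_el, cf_el]
    simp
  · rw [cf1_mul pM_mem (mul_mem m0.1 m2.1) m3.1, cf1_mul pM_mem m0.1 m2.1, m0.2, m2.2, m3.2]
    ring

/-- the value after the exchange, when the central coordinate vanishes -/
theorem swap_zero (b : Bool) (P : K) {z : G₄} (hz : z ∈ Cmp true b) (ha : cf b 1 z = 0) :
    phiA σ (el b P) * z ∈ Cmp false b ∧ z * phiA σ (el b P) ∈ Cmp false b ∧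
    cf b 0 (phiN 1 wB * (phiA σ (el b P) * z) * (phiN 1 wB)⁻¹) = cf1 pA b z ∧
    cf b 0 (phiN 1 wB * (z * phiA σ (el b P)) * (phiN 1 wB)⁻¹) = cf1 pA b z := by
  obtain ⟨z', hz', e⟩ := meet_split b hz
  rw [ha, el_zero, map_one, mul_one] at e
  subst e
  obtain ⟨hA, -, -, h1⟩ := phiA_el_cf (σ := σ) b P
  have hz2 := (Meet_le b).2 hz'
  refine ⟨mul_mem hA hz2, mul_mem hz2 hA, ?_, ?_⟩
  · rw [wB_conj_cf b (mul_mem hA hz2), cf1_mul pM_mem hA hz2, h1, cf1_meet b hz', zero_add]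
  · rw [wB_conj_cf b (mul_mem hz2 hA), cf1_mul pM_mem hz2 hA, h1, cf1_meet b hz', add_zero]

/-- the value after the exchange, when the central coordinate is one -/
theorem swap_one (b : Bool) (P : K) {z : G₄} (hz : z ∈ Cmp true b) (ha : cf b 1 z = 1) :
    phiN 1 (el b 1) * (phiA σ (el b P) * z) ∈ Cmp false b ∧
    z * phiA σ (el b P) * phiN 1 (el b 1) ∈ Cmp false b ∧
    cf b 0 (phiN 1 wB * (phiN 1 (el b 1) * (phiA σ (el b P) * z)) * (phiN 1 wB)⁻¹) =
      cf1 pA b z + P ∧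
    cf b 0 (phiN 1 wB * (z * phiA σ (el b P) * phiN 1 (el b 1)) * (phiN 1 wB)⁻¹) =
      cf1 pA b z + P := by
  obtain ⟨z', hz', e⟩ := meet_split b hz
  rw [ha] at e
  subst e
  obtain ⟨hA, hA0, -, hA1⟩ := phiA_el_cf (σ := σ) b P
  set h : G₄ := phiN 1 (el b 1) with hh
  have hinv : h⁻¹ = h := by
    rw [hh, ← map_inv, el_inv, CharTwo.neg_eq]
  obtain ⟨-, -, hmem, htg, -⟩ := meet_tabs b
  have hh1 : h ∈ Cmp true b := by rw [hh, phiN_el]; exact xG_mem_UL g₄ hmem _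
  have hh0 : cf1 pA b h = 0 := by
    rw [hh, phiN_el, cf1_gen pA_mem (show (sr b 1).val ∈ cmp pA.1 b from hmem)]
    exact if_neg htg
  have hz1 := (Meet_le b).1 hz'
  have hz2 := (Meet_le b).2 hz'
  have hconjA : h * phiA σ (el b P) * h⁻¹ ∈ Cmp false b ∧
      cf1 pM b (h * phiA σ (el b P) * h⁻¹) = P := by
    refine ⟨conj_Cmp pM_mem b (el b 1) hA, ?_⟩
    refine ((conj_el pM_mem b (1 : K) (show phiA σ (el b P) ∈ Cmp pM.1 b from hA)).2.1).trans ?_
    rw [hA1]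
    show 0 + 1 * cf b 0 (phiA σ (el b P)) = P
    rw [hA0]; ring
  have hmc : h * z' * h⁻¹ ∈ Meet b := meet_conj b 1 hz'
  have hval : cf1 pA b (h * z' * h⁻¹) = cf1 pA b z' := by
    rw [cf1_mul pA_mem (mul_mem hh1 hz1) (inv_mem hh1), cf1_mul pA_mem hh1 hz1, hinv, hh0]
    ring
  have hz'h : cf1 pA b (z' * h) = cf1 pA b z' := by
    rw [cf1_mul pA_mem hz1 hh1, hh0, add_zero]
  have e1 : h * (phiA σ (el b P) * (z' * h)) =
      (h * phiA σ (el b P) * h⁻¹) * (h * z' * h⁻¹) := by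
    conv_lhs => rw [show z' * h = z' * h⁻¹ by rw [hinv]]
    group
  have e2 : z' * h * phiA σ (el b P) * h = z' * (h * phiA σ (el b P) * h⁻¹) := by
    rw [hinv]; group
  rw [hz'h, e1, e2]
  have hm2 := (Meet_le b).2 hmc
  refine ⟨mul_mem hconjA.1 hm2, mul_mem hz2 hconjA.1, ?_, ?_⟩
  · rw [wB_conj_cf b (mul_mem hconjA.1 hm2), cf1_mul pM_mem hconjA.1 hm2, hconjA.2,
      cf1_meet b hmc, hval, add_comm]
  · rw [wB_conj_cf b (mul_mem hz2 hconjA.1), cf1_mul pM_mem hz2 hconjA.1, hconjA.2, cf1_meet b hz']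

end CfsgLib.ThompsonD43
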